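import Groth.Prelude.Def_EndRing
import Groth.Prelude.Def_AgPol
import Groth.Prelude.Def_Red
import Groth.Prelude.Def_LieS
import Groth.Agent.Grpsch.PicGrp
import Mathlib.NumberTheory.NumberField.Basic
import Mathlib.NumberTheory.NumberField.InfinitePlace.TotallyRealComplex
import Mathlib.RingTheory.DiscreteValuationRing.Basic
import Mathlib.RingTheory.AdicCompletion.Basic
import Mathlib.LinearAlgebra.Matrix.ToLin
import Mathlib.RingTheory.Multiplicity
import Mathlib.AlgebraicGeometry.Geometrically.Integral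

/-!
# Honda–Tate existence over a prime field: the exact statements of the nodes

Captain: helper511.  Every node is a `Prop` in the namespace `K511.HT`; deliver `theorem main : K511.HT.<Name>`
(universe-polymorphic ones: `K511.HT.<Name>.{u}`).

* numbers: `NT1`, `NT2`, `NT3`, `NT4` (helper229);
* `ELL` (elliptic curve with complex multiplication by `i` and supersingular reduction);
* `ET` (helper613), `LIFT`, `ALG` (helper151), `LB`, `LBU` (helper732), `CMW` (helper511);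
* `SP` (helper510), `OL` (helper501), `RED` (helper940), `ST` (helper324), `WEIL`;
* `HTE` = the existence theorem over the prime field.
-/

set_option autoImplicit false
universe u
open CategoryTheory CategoryTheory.Limits MonoidalCategory CartesianMonoidalCategory MonObj GrpObj AlgebraicGeometry
open Groth.Agent.Grpsch.PicGrp
open scoped NumberField Polynomial

noncomputable section

namespace K511.HT

/-! ## Vocabulary -/

/-- `Spec R`. -/
abbrev Spc (R : Type u) [CommRing R] : Scheme.{u} := Spec (CommRingCat.of R)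

/-- `Spec φ`. -/
abbrev spm {R S : Type u} [CommRing R] [CommRing S] (φ : R →+* S) : Spc S ⟶ Spc R :=
  Spec.map (CommRingCat.ofHom φ)

/-- Base change of endomorphisms. -/
def bcEnd {S S' : Scheme.{u}} (f : S' ⟶ S) (A : Over S) [GrpObj A] [IsCommMonObj A] :
    EndAV.End A →+* EndAV.End (Red.bc f A) where
  toFun φ := EndAV.End.of ((Over.pullback f).map φ.toHom)
  map_one' := EndAV.End.ext ((Over.pullback f).map_id A)
  map_mul' φ ψ := EndAV.End.ext ((Over.pullback f).map_comp ψ.toHom φ.toHom)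
  map_zero' := EndAV.End.ext (Functor.map_one (Over.pullback f))
  map_add' φ ψ := EndAV.End.ext (Functor.map_mul (Over.pullback f) φ.toHom ψ.toHom)

/-- Base change of homomorphisms. -/
def bcHom {S S' : Scheme.{u}} (f : S' ⟶ S) (A B : Over S) [GrpObj A] [IsCommMonObj A] [GrpObj B] [IsCommMonObj B] :
    EndAV.Hom A B →+ EndAV.Hom (Red.bc f A) (Red.bc f B) where
  toFun φ := EndAV.Hom.of ((Over.pullback f).map φ.toHom)
  map_zero' := EndAV.Hom.ext (Functor.map_one (Over.pullback f))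
  map_add' φ ψ := EndAV.Hom.ext (Functor.map_mul (Over.pullback f) φ.toHom ψ.toHom)

/-- `φ : O → K` occurs in the Lie algebra (tangent space at the origin) of the `K`-group scheme `A` with its action
`ρ` of `O`: there is a nonzero tangent vector on which every `b` in `O` acts as `φ b`. Used for fields `K` only. -/
def Eig (K : Type u) [CommRing K] (A : Over (Spc K)) [GrpObj A] [IsCommMonObj A] {O : Type} [CommRing O]
    (ρ : O →+* EndAV.End A) (φ : O →+* K) : Prop :=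
  ∃ v : LieS.Lie A K (𝟙 (Spc K)), v ≠ 1 ∧ ∀ b : O, LieS.map K (𝟙 (Spc K)) (ρ b).toHom v = φ b • v

/-- `X` is the `g`-th power of `E` with projections `p`. -/
structure IsPow {S : Scheme.{u}} (E X : Over S) [GrpObj E] [GrpObj X] {g : ℕ} (p : Fin g → (X ⟶ E)) : Prop where
  hom : ∀ j, IsMonHom (p j)
  lift : ∀ (T : Over S) (v : Fin g → (T ⟶ E)), ∃! w : T ⟶ X, ∀ j, w ≫ p j = v j

/-- The endomorphism `f` of the power `X` of `E` is given by the matrix `B` of endomorphisms of `E`. -/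
def IsMat {S : Scheme.{u}} {E X : Over S} [GrpObj E] [IsCommMonObj E] [GrpObj X] [IsCommMonObj X] {g : ℕ}
    (p : Fin g → (X ⟶ E)) (B : Matrix (Fin g) (Fin g) (EndAV.End E)) (f : EndAV.End X) : Prop :=
  ∀ j, f.toHom ≫ p j = ∏ l, p l ≫ (B j l).toHom

/-- the class of an ample invertible module. -/
def IsAmpleCl {X : Scheme.{u}} (c : Pic X) : Prop := ∃ (L : X.Modules) (hL : CohB1.IsAmple L), c = mk L hL.1

/-- symmetric classes on a group scheme. -/
def IsSymm {S : Scheme.{u}} (A : Over S) [GrpObj A] (c : Pic A.left) : Prop := pull (ι[A] : A ⟶ A).left c = c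

/-- `f` is the `q`-power Frobenius endomorphism: the identity on points, the `q`-th power on sections. -/
def IsFrob {S : Scheme.{u}} {A : Over S} (q : ℕ) (f : A ⟶ A) : Prop :=
  f.left.base = 𝟙 _ ∧ ∃ h : ∀ U : A.left.Opens, U ≤ f.left ⁻¹ᵁ U,
    ∀ (U : A.left.Opens) (s : Γ(A.left, U)), (f.left.appLE U U (h U)).hom s = s ^ q

/-- The exponent of `𝔭` in `x`. -/
def ord {L : Type} [Field L] (𝔭 : Ideal (𝓞 L)) (x : 𝓞 L) : ℕ := multiplicity 𝔭 (Ideal.span {x})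

/-- `r` is a good prime for `(F, d)`: `r = 3` mod `4`, `r` splits completely in `F`, `d` is a unit and a square at
every place over `r`. -/
structure Good (F : Type) [Field F] [NumberField F] (d : 𝓞 F) (r : ℕ) : Prop where
  prime : r.Prime
  mod4 : r % 4 = 3
  norm : ∀ v : Ideal (𝓞 F), v.IsMaximal → (r : 𝓞 F) ∈ v → Nat.card (𝓞 F ⧸ v) = r
  unram : ∀ v : Ideal (𝓞 F), v.IsMaximal → (r : 𝓞 F) ∉ v ^ 2
  unit : ∀ v : Ideal (𝓞 F), v.IsMaximal → (r : 𝓞 F) ∈ v → d ∉ v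
  sq : ∀ v : Ideal (𝓞 F), v.IsMaximal → (r : 𝓞 F) ∈ v → ∃ s : 𝓞 F, s ^ 2 - d ∈ v

/-! ## Number theory (helper229) -/

def NT1 : Prop := ∀ (F : Type) [Field F] [NumberField F] [NumberField.IsTotallyReal F] (d : 𝓞 F),
  (∀ σ : F →+* ℝ, 0 < σ d) → ∀ N : ℕ, N ≠ 0 → ∃ r, Good F d r ∧ ¬ r ∣ N

def NT2 : Prop := ∀ (F : Type) [Field F] [NumberField F] [NumberField.IsTotallyReal F] (d : 𝓞 F),
  (∀ σ : F →+* ℝ, 0 < σ d) → ∀ (r : ℕ), Good F d r → ∀ h : 𝓞 F, h ^ 2 - d ∈ Ideal.span {(r : 𝓞 F)} →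
    ∃ (m : ℕ) (x y z : 𝓞 F), ¬ r ∣ m ∧ x ^ 2 + r * (y ^ 2 + z ^ 2) = m ^ 2 * d ∧
      x - m * h ∈ Ideal.span {(r : 𝓞 F)}

/-- The choice of the CM type at `p`. -/
def NT3 : Prop := ∀ (p : ℕ) [Fact p.Prime] (L : Type) [Field L] [NumberField L] (ϖ : 𝓞 L) (c : L ≃+* L),
  c ϖ * ϖ = p → (∀ x, c (c x) = x) → (∀ (φ : L →+* ℂ) x, φ (c x) = star (φ x)) → (∃ x, c x ≠ x) →
  ∀ (M : Type) [Field M] [NumberField M], Nat.card (L →+* M) = Module.finrank ℚ L →
  ∀ (𝔓 : Ideal (𝓞 M)) [𝔓.IsMaximal], (p : 𝓞 M) ∈ 𝔓 →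
  ∃ Φ : Set (L →+* M), (∀ φ : L →+* M, φ ∈ Φ ↔ φ.comp (c : L →+* L) ∉ Φ) ∧
    ∀ 𝔭 : Ideal (𝓞 L), 𝔭.IsMaximal → (p : 𝓞 L) ∈ 𝔭 →
      Nat.card (𝓞 L ⧸ 𝔭) ^ ord 𝔭 ϖ =
        p ^ Nat.card {φ : L →+* M // φ ∈ Φ ∧ 𝔓.comap (NumberField.RingOfIntegers.mapRingHom φ) = 𝔭}

def NT4 : Prop := ∀ (p a : ℕ) [Fact p.Prime], a ≠ 0 → ∀ (L : Type) [Field L] [NumberField L] (ϖ π₀ : 𝓞 L),
  (∀ σ : L →+* ℂ, ‖σ ϖ‖ ^ 2 = p) → (∀ σ : L →+* ℂ, ‖σ π₀‖ ^ 2 = p ^ a) →
  (∀ 𝔭 : Ideal (𝓞 L), 𝔭.IsMaximal → (p : 𝓞 L) ∈ 𝔭 → ord 𝔭 π₀ = a * ord 𝔭 ϖ) →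
  ∃ m : ℕ, m ≠ 0 ∧ π₀ ^ m = ϖ ^ (a * m)

/-! ## Over a complete discrete valuation ring of residue characteristic `r` -/

/-- The elliptic curve `y² = x³ - x`. -/
structure EData (r : ℕ) (W : Type u) [CommRing W] [IsLocalRing W] where
  E : Over (Spc W)
  [grp : GrpObj E]
  [comm : IsCommMonObj E]
  ab : AgPol.IsAbSch E 1
  i : EndAV.End E
  i_sq : i * i = -1
  /-- `F` on the special fibre -/
  F : EndAV.End (Red.bc (spm (IsLocalRing.residue W)) E)
  F_sq : F * F = -(r : EndAV.End (Red.bc (spm (IsLocalRing.residue W)) E))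
  F_i : F * bcEnd (spm (IsLocalRing.residue W)) E i = -(bcEnd (spm (IsLocalRing.residue W)) E i * F)
  M₀ : Pic E.left
  ample : IsAmpleCl M₀
  i_M : pull i.toHom.left M₀ = M₀
  F_M : pull F.toHom.left (pull (pullback.fst E.hom (spm (IsLocalRing.residue W))) M₀) =
    (pull (pullback.fst E.hom (spm (IsLocalRing.residue W))) M₀) ^ r

attribute [instance] EData.grp EData.comm

def ELL : Prop := ∀ (r : ℕ), r.Prime → r % 4 = 3 → ∀ (W : Type u) [CommRing W] [IsDomain W]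
  [IsDiscreteValuationRing W] [IsAdicComplete (IsLocalRing.maximalIdeal W) W],
  IsLocalRing.maximalIdeal W = Ideal.span {(r : W)} → Nat.card (IsLocalRing.ResidueField W) = r ^ 2 →
  ∀ (iW : W), iW ^ 2 = -1 → Nonempty (EData r W)

/-- Etale lift of an isogeny of degree prime to the residue characteristic (helper613). -/
def ET : Prop := ∀ (W : Type u) [CommRing W] [IsDomain W] [IsDiscreteValuationRing W]
  [IsAdicComplete (IsLocalRing.maximalIdeal W) W] (A : Over (Spc W)) [GrpObj A] [IsCommMonObj A] (g : ℕ),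
  AgPol.IsAbSch A g → ∀ m : ℕ, (m : IsLocalRing.ResidueField W) ≠ 0 →
  ∀ v₀ w₀ : EndAV.End (Red.bc (spm (IsLocalRing.residue W)) A),
    v₀ * w₀ = (m : EndAV.End (Red.bc (spm (IsLocalRing.residue W)) A)) →
    w₀ * v₀ = (m : EndAV.End (Red.bc (spm (IsLocalRing.residue W)) A)) →
  ∃ (X : Over (Spc W)) (_ : GrpObj X) (_ : IsCommMonObj X) (_ : AgPol.IsAbSch X g)
    (v : EndAV.Hom A X) (w : EndAV.Hom X A)
    (e : Red.bc (spm (IsLocalRing.residue W)) X ≅ Red.bc (spm (IsLocalRing.residue W)) A) (_ : IsMonHom e.hom),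
    v ≫ w = (m : EndAV.End A) ∧ w ≫ v = (m : EndAV.End X) ∧
    (bcHom (spm (IsLocalRing.residue W)) A X v).toHom ≫ e.hom = v₀.toHom ∧
    (bcHom (spm (IsLocalRing.residue W)) X A w).toHom = e.hom ≫ w₀.toHom

/-- Rigidity and lifting of `r ^ n` times a homomorphism over a nilpotent thickening (helper151). -/
def LIFT : Prop := ∀ (R : Type u) [CommRing R] [IsLocalRing R] [IsNoetherianRing R] (I : Ideal R) (r n : ℕ),
  I ≠ ⊤ → (r : R) ∈ I → I ^ (n + 1) = ⊥ →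
  ∀ (X Y : Over (Spc R)) [GrpObj X] [IsCommMonObj X] [GrpObj Y] [IsCommMonObj Y] (g g' : ℕ),
    AgPol.IsAbSch X g → AgPol.IsAbSch Y g' →
    (∀ f f' : EndAV.Hom X Y, bcHom (spm (Ideal.Quotient.mk I)) X Y f = bcHom (spm (Ideal.Quotient.mk I)) X Y f' →
      f = f') ∧
    ∀ f₀ : EndAV.Hom (Red.bc (spm (Ideal.Quotient.mk I)) X) (Red.bc (spm (Ideal.Quotient.mk I)) Y),
      ∃ f : EndAV.Hom X Y, bcHom (spm (Ideal.Quotient.mk I)) X Y f = r ^ n • f₀

/-- Algebraization of an adic system of abelian schemes with endomorphisms and ample classes (helper151). -/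
def ALG : Prop := ∀ (W : Type u) [CommRing W] [IsDomain W] [IsDiscreteValuationRing W]
  [IsAdicComplete (IsLocalRing.maximalIdeal W) W] (g : ℕ)
  (X : ∀ n : ℕ, Over (Spc (W ⧸ IsLocalRing.maximalIdeal W ^ (n + 1))))
  [∀ n, GrpObj (X n)] [∀ n, IsCommMonObj (X n)], (∀ n, AgPol.IsAbSch (X n) g) →
  ∀ (e : ∀ n, Red.bc (CohB1.specQuotTrans (IsLocalRing.maximalIdeal W) n) (X (n + 1)) ≅ X n),
  (∀ n, IsMonHom (e n).hom) →
  ∀ (L : ∀ n, Pic (X n).left),
    (∀ n, pull ((e n).inv.left ≫ pullback.fst (X (n + 1)).hom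
      (CohB1.specQuotTrans (IsLocalRing.maximalIdeal W) n)) (L (n + 1)) = L n) → IsAmpleCl (L 0) →
  ∀ (O : Type) [CommRing O] (ρ : ∀ n, O →+* EndAV.End (X n)),
    (∀ n b, (Over.pullback (CohB1.specQuotTrans (IsLocalRing.maximalIdeal W) n)).map (ρ (n + 1) b).toHom ≫
      (e n).hom = (e n).hom ≫ (ρ n b).toHom) →
  ∃ (Y : Over (Spc W)) (_ : GrpObj Y) (_ : IsCommMonObj Y) (_ : AgPol.IsAbSch Y g) (ρ' : O →+* EndAV.End Y)
    (ε : ∀ n, Red.bc (CohB1.specQuot (IsLocalRing.maximalIdeal W) n) Y ≅ X n), (∀ n, IsMonHom (ε n).hom) ∧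
    ∀ n b, (Over.pullback (CohB1.specQuot (IsLocalRing.maximalIdeal W) n)).map (ρ' b).toHom ≫ (ε n).hom =
      (ε n).hom ≫ (ρ n b).toHom

/-- The integer matrix `μ` acting on the power. -/
def IsRep {S : Scheme.{u}} {E X : Over S} [GrpObj E] [IsCommMonObj E] [GrpObj X] [IsCommMonObj X] {g : ℕ}
    (p : Fin g → (X ⟶ E)) {O : Type} [CommRing O] (b : Module.Basis (Fin g) ℤ O) (j : EndAV.End E) (a : O)
    (f : EndAV.End X) : Prop :=
  IsMat p ((Algebra.leftMulMatrix b a).map fun n : ℤ => (n : EndAV.End E) * j) f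

/-- Polarizations (helper732). For `E` as in `EData`, `A` the `g`-th power of `E`, `𝓞 F` acting through its regular
representation, there is an ample symmetric class `MT` on the special fibre `A_k`, such that for all
`x y z ξ` with `c = (ξ + x)² + r (y² + z²)` prime to `r` and every abelian scheme `X` over `W` with `v : A ⟶ X`,
`w : X ⟶ A`, `v ≫ w = m`, `w ≫ v = m` (`m` prime to `r`) and `X_k ≅ A_k` carrying `v` to
`V = (ξ + x) i + y F + z i F`, for all `n` the square of `MT` has a symmetric lift to `X` mod `r ^ (n + 1)`. -/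
def LB : Prop := ∀ (r : ℕ), r.Prime → r % 4 = 3 → ∀ (W : Type u) [CommRing W] [IsDomain W]
  [IsDiscreteValuationRing W] [IsAdicComplete (IsLocalRing.maximalIdeal W) W],
  IsLocalRing.maximalIdeal W = Ideal.span {(r : W)} → ∀ (D : EData r W)
  (F : Type) [Field F] [NumberField F] [NumberField.IsTotallyReal F] (g : ℕ) (b : Module.Basis (Fin g) ℤ (𝓞 F))
  (A : Over (Spc W)) [GrpObj A] [IsCommMonObj A] (p : Fin g → (A ⟶ D.E)), IsPow D.E A p → AgPol.IsAbSch A g →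
  ∃ MT : Pic (Red.bc (spm (IsLocalRing.residue W)) A).left, IsAmpleCl MT ∧
    IsSymm (Red.bc (spm (IsLocalRing.residue W)) A) MT ∧
  ∀ (x y z ξ : 𝓞 F), Ideal.span {(ξ + x) ^ 2 + r * (y ^ 2 + z ^ 2)} ⊔ Ideal.span {(r : 𝓞 F)} = ⊤ →
  ∀ (V₁ V₂ V₃ : EndAV.End (Red.bc (spm (IsLocalRing.residue W)) A)),
    IsRep (fun j => (Over.pullback (spm (IsLocalRing.residue W))).map (p j)) b
      (bcEnd (spm (IsLocalRing.residue W)) D.E D.i) (ξ + x) V₁ →
    IsRep (fun j => (Over.pullback (spm (IsLocalRing.residue W))).map (p j)) b D.F y V₂ →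
    IsRep (fun j => (Over.pullback (spm (IsLocalRing.residue W))).map (p j)) b
      (bcEnd (spm (IsLocalRing.residue W)) D.E D.i * D.F) z V₃ →
  ∀ (X : Over (Spc W)) [GrpObj X] [IsCommMonObj X], AgPol.IsAbSch X g →
  ∀ (m : ℕ) (v : EndAV.Hom A X) (w : EndAV.Hom X A)
    (e : Red.bc (spm (IsLocalRing.residue W)) X ≅ Red.bc (spm (IsLocalRing.residue W)) A) (_ : IsMonHom e.hom),
    (m : IsLocalRing.ResidueField W) ≠ 0 → v ≫ w = (m : EndAV.End A) → w ≫ v = (m : EndAV.End X) →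
    (bcHom (spm (IsLocalRing.residue W)) A X v).toHom ≫ e.hom = (V₁ + V₂ + V₃).toHom →
  ∀ n : ℕ, ∃ L : Pic (Red.bc (CohB1.specQuot (IsLocalRing.maximalIdeal W) n) X).left,
    IsSymm (Red.bc (CohB1.specQuot (IsLocalRing.maximalIdeal W) n) X) L ∧
    ∀ (s : (Red.bc (spm (IsLocalRing.residue W)) X).left ⟶
        (Red.bc (CohB1.specQuot (IsLocalRing.maximalIdeal W) n) X).left),
      s ≫ pullback.fst X.hom (CohB1.specQuot (IsLocalRing.maximalIdeal W) n) =
        pullback.fst X.hom (spm (IsLocalRing.residue W)) →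
      pull s L = pull e.hom.left (MT ^ 2)

/-- Uniqueness of symmetric lifts (helper732): `R` artinian local of odd residue characteristic. -/
def LBU : Prop := ∀ (R : Type u) [CommRing R] [IsLocalRing R] [IsArtinianRing R],
  ((2 : ℕ) : IsLocalRing.ResidueField R) ≠ 0 → ∀ (X : Over (Spc R)) [GrpObj X] [IsCommMonObj X] (g : ℕ),
  AgPol.IsAbSch X g → ∀ L L' : Pic X.left, IsSymm X L → IsSymm X L' →
  pull (pullback.fst X.hom (spm (IsLocalRing.residue R))) L =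
    pull (pullback.fst X.hom (spm (IsLocalRing.residue R))) L' →
  IsAmpleCl (pull (pullback.fst X.hom (spm (IsLocalRing.residue R))) L) → L = L'

/-- CM abelian schemes over `W` (helper511, from `ELL`, `ET`, `LIFT`, `ALG`, `LB`, `LBU`). -/
def CMW : Prop := ∀ (r : ℕ), r.Prime → r % 4 = 3 → ∀ (W : Type u) [CommRing W] [IsDomain W]
  [IsDiscreteValuationRing W] [CharZero W] [IsAdicComplete (IsLocalRing.maximalIdeal W) W],
  IsLocalRing.maximalIdeal W = Ideal.span {(r : W)} → Nat.card (IsLocalRing.ResidueField W) = r ^ 2 →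
  ∀ (iW : W), iW ^ 2 = -1 → ∀ (F : Type) [Field F] [NumberField F] [NumberField.IsTotallyReal F]
  (δ x y z : 𝓞 F), x ^ 2 + r * (y ^ 2 + z ^ 2) = δ → Good F δ r →
  ∃ (X : Over (Spc W)) (_ : GrpObj X) (_ : IsCommMonObj X) (_ : AgPol.IsAbSch X (Module.finrank ℚ F))
    (ρ : AdjoinRoot (Polynomial.X ^ 2 + Polynomial.C δ : (𝓞 F)[X]) →+* EndAV.End X),
    ∀ (φ : AdjoinRoot (Polynomial.X ^ 2 + Polynomial.C δ : (𝓞 F)[X]) →+* W) (t : W),
      φ (AdjoinRoot.root _) = t * iW → t - φ (AdjoinRoot.of _ x) ∈ IsLocalRing.maximalIdeal W →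
      Eig (FractionRing W) (Red.bc (spm (algebraMap W (FractionRing W))) X)
        ((bcEnd (spm (algebraMap W (FractionRing W))) X).comp ρ) ((algebraMap W (FractionRing W)).comp φ)

/-! ## Specialization and reduction -/

/-- Spreading out and specialization to a number field (helper510). -/
def SP : Prop := ∀ (M : Type) [Field M] [NumberField M] (K : Type u) [Field K] [CharZero K] (j : M →+* K)
  (A : Over (Spc K)) [GrpObj A] [IsCommMonObj A] [IsProper A.hom] [GeometricallyIntegral A.hom] (g : ℕ),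
  topologicalKrullDim A.left = g → ∀ (O : Type) [CommRing O] [Module.Finite ℤ O] (ρ : O →+* EndAV.End A)
  (Φ : Finset (O →+* M)), (∀ φ ∈ Φ, Eig K A ρ (j.comp φ)) →
  ∃ (K' : Type u) (_ : Field K') (_ : CharZero K') (_ : NumberField K') (j' : M →+* K')
    (A' : Over (Spc K')) (_ : GrpObj A') (_ : IsCommMonObj A') (_ : IsProper A'.hom)
    (_ : GeometricallyIntegral A'.hom) (_ : topologicalKrullDim A'.left = g) (ρ' : O →+* EndAV.End A'),
    ∀ φ ∈ Φ, Eig K' A' ρ' (j'.comp φ)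

/-- From an order `O` of `L` to the maximal order, up to isogeny (helper501). -/
def OL : Prop := ∀ (K : Type u) [Field K] [CharZero K] (A : Over (Spc K)) [GrpObj A] [IsCommMonObj A]
  [IsProper A.hom] [GeometricallyIntegral A.hom] (g : ℕ), topologicalKrullDim A.left = g →
  ∀ (L : Type) [Field L] [NumberField L] (O : Type) [CommRing O] (inc : O →+* 𝓞 L) (n : ℕ), n ≠ 0 →
  Function.Injective inc → (∀ x : 𝓞 L, ∃ y : O, inc y = n * x) → ∀ (ρ : O →+* EndAV.End A) (Φ : Finset (𝓞 L →+* K)),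
  (∀ φ ∈ Φ, Eig K A ρ (φ.comp inc)) →
  ∃ (A' : Over (Spc K)) (_ : GrpObj A') (_ : IsCommMonObj A') (_ : IsProper A'.hom)
    (_ : GeometricallyIntegral A'.hom) (_ : topologicalKrullDim A'.left = g) (ρ' : 𝓞 L →+* EndAV.End A'),
    ∀ φ ∈ Φ, Eig K A' ρ' φ

/-- Potential good reduction (helper940). -/
def RED : Prop := ∀ (M : Type) [Field M] [NumberField M] (𝔓 : Ideal (𝓞 M)) [𝔓.IsMaximal] (K : Type u) [Field K]
  [CharZero K] [NumberField K] (j : M →+* K) (A : Over (Spc K)) [GrpObj A] [IsCommMonObj A]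
  [IsProper A.hom] [GeometricallyIntegral A.hom] (g : ℕ), topologicalKrullDim A.left = g →
  ∀ (L : Type) [Field L] [NumberField L], Module.finrank ℚ L = 2 * g → ∀ (ρ : 𝓞 L →+* EndAV.End A),
  𝔓 ≠ ⊥ →
  ∃ (V : Type u) (_ : CommRing V) (_ : IsDomain V) (_ : IsDiscreteValuationRing V) (_ : CharZero V)
    (_ : Finite (IsLocalRing.ResidueField V)) (jV : 𝓞 M →+* V) (t : K →+* FractionRing V)
    (X : Over (Spc V)) (_ : GrpObj X) (_ : IsCommMonObj X) (_ : AgPol.IsAbSch X g) (ρ' : 𝓞 L →+* EndAV.End X)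
    (e : Red.bc (spm (algebraMap V (FractionRing V))) X ≅ Red.bc (spm t) A) (_ : IsMonHom e.hom),
    (∀ x : 𝓞 M, algebraMap V (FractionRing V) (jV x) = t (j x)) ∧ (IsLocalRing.maximalIdeal V).comap jV = 𝔓 ∧
    ∀ b, (bcEnd (spm (algebraMap V (FractionRing V))) X (ρ' b)).toHom ≫ e.hom =
      e.hom ≫ (bcEnd (spm t) A (ρ b)).toHom

/-- Shimura–Taniyama (helper324). -/
def ST : Prop := ∀ (p a : ℕ) [Fact p.Prime], a ≠ 0 → ∀ (V : Type u) [CommRing V] [IsDomain V]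
  [IsDiscreteValuationRing V] [CharZero V], Nat.card (IsLocalRing.ResidueField V) = p ^ a →
  ∀ (X : Over (Spc V)) [GrpObj X] [IsCommMonObj X] (g : ℕ), AgPol.IsAbSch X g →
  ∀ (L : Type) [Field L] [NumberField L], Module.finrank ℚ L = 2 * g → ∀ (ρ : 𝓞 L →+* EndAV.End X)
  (Φ : Finset (𝓞 L →+* V)), Φ.card = g →
  (∀ φ ∈ Φ, Eig (FractionRing V) (Red.bc (spm (algebraMap V (FractionRing V))) X)
    ((bcEnd (spm (algebraMap V (FractionRing V))) X).comp ρ) ((algebraMap V (FractionRing V)).comp φ)) →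
  ∃ π₀ : 𝓞 L, IsFrob (p ^ a) (bcEnd (spm (IsLocalRing.residue V)) X (ρ π₀)).toHom ∧
    ∀ 𝔭 : Ideal (𝓞 L), 𝔭.IsMaximal → (p : 𝓞 L) ∈ 𝔭 →
      Nat.card (𝓞 L ⧸ 𝔭) ^ ord 𝔭 π₀ =
        (p ^ a) ^ Nat.card {φ : 𝓞 L →+* V // φ ∈ Φ ∧ (IsLocalRing.maximalIdeal V).comap φ = 𝔭}

/-- The Riemann hypothesis in the form needed. -/
def WEIL : Prop := ∀ (q : ℕ) (κ : Type u) [Field κ] [Finite κ], Nat.card κ = q →
  ∀ (A : Over (Spc κ)) [GrpObj A] [IsCommMonObj A] [IsProper A.hom] [GeometricallyIntegral A.hom],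
  topologicalKrullDim A.left ≠ 0 → ∀ (L : Type) [Field L] [NumberField L] (ρ : 𝓞 L →+* EndAV.End A) (π₀ : 𝓞 L),
  IsFrob q (ρ π₀).toHom → ∀ σ : L →+* ℂ, ‖σ π₀‖ ^ 2 = q

/-- The existence theorem over some finite extension (helper511, from the nodes above). -/
def HTQ : Prop := ∀ (p : ℕ) [Fact p.Prime] (L : Type) [Field L] [NumberField L] (ϖ : 𝓞 L),
  Algebra.adjoin ℚ {(ϖ : L)} = ⊤ → (∀ σ : L →+* ℂ, ‖σ ϖ‖ ^ 2 = p) → (∀ σ : L →+* ℂ, (σ ϖ).im ≠ 0) →
  ∃ (a m : ℕ) (_ : a ≠ 0) (_ : m ≠ 0) (κ : Type u) (_ : Field κ) (_ : Finite κ) (_ : Nat.card κ = p ^ a)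
    (A : Over (Spc κ)) (_ : GrpObj A) (_ : IsCommMonObj A) (_ : IsProper A.hom) (_ : GeometricallyIntegral A.hom)
    (g : ℕ) (_ : topologicalKrullDim A.left = g) (_ : Module.finrank ℚ L = 2 * g)
    (ρ : 𝓞 L →+* EndAV.End A) (π₀ : 𝓞 L), IsFrob (p ^ a) (ρ π₀).toHom ∧ π₀ ^ m = ϖ ^ (a * m)

/-- The existence theorem over the prime field (helper515, from `HTQ`). -/
def HTE : Prop := ∀ (p : ℕ) [Fact p.Prime] (k : Type u) [Field k] [Finite k], Nat.card k = p →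
  ∀ (L : Type) [Field L] [NumberField L] (ϖ : 𝓞 L),
  Algebra.adjoin ℚ {(ϖ : L)} = ⊤ → (∀ σ : L →+* ℂ, ‖σ ϖ‖ ^ 2 = p) → (∀ σ : L →+* ℂ, (σ ϖ).im ≠ 0) →
  ∃ (B : Over (Spc k)) (_ : GrpObj B) (_ : IsCommMonObj B) (_ : IsProper B.hom) (_ : GeometricallyIntegral B.hom)
    (g : ℕ) (_ : topologicalKrullDim B.left = g) (_ : Module.finrank ℚ L = 2 * g)
    (ρ : Algebra.adjoin ℤ {ϖ} →+* EndAV.End B),
    IsFrob p (ρ ⟨ϖ, Algebra.self_mem_adjoin_singleton ℤ ϖ⟩).toHom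

end K511.HT
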