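import Groth.Agent.AbVar.K511.HT.LieFun
import Groth.Agent.AbSch.K448.PointedHom
import Groth.Agent.Flat2G.ProperDim
import Groth.Agent.Flat2B.SmoothGeom

/-!
# Base change of abelian schemes in relational form

`IsBC t X X' q`: `q : X'.left ⟶ X.left` exhibits `X'` as the base change of the (pointed) scheme `X` along
`t : S' ⟶ S`. For abelian schemes the base change `tr` of homomorphisms is an additive map, characterized by
`(tr f).left ≫ q_Y = q_X ≫ f.left`.
-/

set_option autoImplicit false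
set_option linter.unusedSectionVars false
universe u
open CategoryTheory CategoryTheory.Limits MonoidalCategory CartesianMonoidalCategory MonObj GrpObj AlgebraicGeometry

noncomputable section

namespace K511.HT

theorem isAbSch_of_isPullback {S S' : Scheme.{u}} {t : S' ⟶ S} {X : Over S} {X' : Over S'} {q : X'.left ⟶ X.left}
    {g : ℕ} (sq : IsPullback q X'.hom X.hom t) (h : AgPol.IsAbSch X g) : AgPol.IsAbSch X' g where
  smooth := MorphismProperty.of_isPullback sq h.smooth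
  proper := MorphismProperty.of_isPullback sq h.proper
  geomConnected := MorphismProperty.of_isPullback sq h.geomConnected
  fibreDim s := by
    have := h.smooth
    rw [Groth.Agent.Flat2G.ProperDim.topologicalKrullDim_fiber_baseChange X.hom X'.hom q t sq s]
    exact h.fibreDim _

theorem isAbSch_bc {S S' : Scheme.{u}} {X : Over S} {g : ℕ} (t : S' ⟶ S) (h : AgPol.IsAbSch X g) :
    AgPol.IsAbSch (Red.bc t X) g :=
  isAbSch_of_isPullback (IsPullback.of_hasPullback X.hom t) h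

theorem isAbSch_of_iso {S : Scheme.{u}} {X Y : Over S} {g : ℕ} (e : X ≅ Y) (h : AgPol.IsAbSch Y g) :
    AgPol.IsAbSch X g := by
  have : IsIso e.hom.left := inferInstanceAs (IsIso ((Over.forget _).map e.hom))
  refine isAbSch_of_isPullback (q := e.hom.left) (t := 𝟙 S) ?_ h
  exact IsPullback.of_horiz_isIso ⟨by rw [Category.comp_id]; exact Over.w e.hom⟩

/-- Pointed morphisms of abelian schemes are homomorphisms. -/
theorem isMonHom_of_unit {T : Scheme.{u}} {X Y : Over T} [GrpObj X] [GrpObj Y] {g g' : ℕ}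
    (hX : AgPol.IsAbSch X g) (hY : AgPol.IsAbSch Y g') (e : X ⟶ Y) (he : η[X] ≫ e = η[Y]) : IsMonHom e := by
  have := hX.smooth
  have := hX.proper
  have := hX.geomConnected
  have := hY.proper
  have := Groth.Agent.Flat2B.SmoothGeom.geometricallyReduced_of_smooth X.hom
  exact K448.PointedHom.isMonHom_of_pointed e he

/-- `X'` is the base change of the pointed scheme `X` along `t`. -/
structure IsBC {S S' : Scheme.{u}} (t : S' ⟶ S) (X : Over S) (X' : Over S') [GrpObj X] [GrpObj X']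
    (q : X'.left ⟶ X.left) : Prop where
  cart : IsPullback q X'.hom X.hom t
  unit : (η[X'] : 𝟙_ (Over S') ⟶ X').left ≫ q = t ≫ (η[X] : 𝟙_ (Over S) ⟶ X).left

section basic

variable {S S' S'' : Scheme.{u}} {t : S' ⟶ S} {t' : S'' ⟶ S'} {X Y : Over S} {X' Y' : Over S'} {X'' : Over S''}
  [GrpObj X] [GrpObj X'] [GrpObj X''] [GrpObj Y] [GrpObj Y']
  {q : X'.left ⟶ X.left} {q' : X''.left ⟶ X'.left} {r : Y'.left ⟶ Y.left}

theorem unit_bc_fst (t : S' ⟶ S) (X : Over S) [GrpObj X] :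
    (η[Red.bc t X] : 𝟙_ (Over S') ⟶ Red.bc t X).left ≫ pullback.fst X.hom t =
      t ≫ (η[X] : 𝟙_ (Over S) ⟶ X).left := by
  have h1 : (η[Red.bc t X] : 𝟙_ (Over S') ⟶ Red.bc t X) = Functor.LaxMonoidal.ε (Over.pullback t) ≫
    (Over.pullback t).map η[X] := rfl
  rw [h1, Over.comp_left, Category.assoc]
  have h2 : ((Over.pullback t).map (η[X] : 𝟙_ (Over S) ⟶ X)).left ≫ pullback.fst X.hom t =
      pullback.fst (𝟙_ (Over S)).hom t ≫ (η[X] : 𝟙_ (Over S) ⟶ X).left := pullback.lift_fst _ _ _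
  rw [h2, ← Category.assoc]
  congr 1
  have h3 : (Functor.LaxMonoidal.ε (Over.pullback t)).left ≫ pullback.snd (𝟙_ (Over S)).hom t = 𝟙 _ :=
    Over.w (Functor.LaxMonoidal.ε (Over.pullback t))
  have h4 : pullback.fst (𝟙_ (Over S)).hom t = pullback.snd (𝟙_ (Over S)).hom t ≫ t := by
    rw [← pullback.condition]
    exact (Category.comp_id _).symm
  rw [h4, ← Category.assoc, h3]
  exact Category.id_comp _

theorem isBC_bc (t : S' ⟶ S) (X : Over S) [GrpObj X] : IsBC t X (Red.bc t X) (pullback.fst X.hom t) :=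
  ⟨IsPullback.of_hasPullback X.hom t, unit_bc_fst t X⟩

theorem unit_hom {S : Scheme.{u}} (X : Over S) [GrpObj X] : (η[X] : 𝟙_ (Over S) ⟶ X).left ≫ X.hom = 𝟙 S :=
  Over.w (η[X] : 𝟙_ (Over S) ⟶ X)

theorem IsBC.comp (h : IsBC t X X' q) (h' : IsBC t' X' X'' q') : IsBC (t' ≫ t) X X'' (q' ≫ q) :=
  ⟨h'.cart.paste_horiz h.cart, by rw [← Category.assoc, h'.unit, Category.assoc, h.unit, Category.assoc]⟩

theorem IsBC.congr {t₁ t₂ : S' ⟶ S} (h : IsBC t₁ X X' q) (e : t₁ = t₂) : IsBC t₂ X X' q := e ▸ h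

/-- The factorization of a base change through an intermediate one. -/
def IsBC.lift (h : IsBC t X X' q) {Q : X''.left ⟶ X.left} (H : IsBC (t' ≫ t) X X'' Q) : X''.left ⟶ X'.left :=
  h.cart.lift Q (X''.hom ≫ t') (by rw [H.cart.w, Category.assoc])

theorem IsBC.lift_fac (h : IsBC t X X' q) {Q : X''.left ⟶ X.left} (H : IsBC (t' ≫ t) X X'' Q) :
    h.lift H ≫ q = Q := h.cart.lift_fst _ _ _

theorem IsBC.lift_hom (h : IsBC t X X' q) {Q : X''.left ⟶ X.left} (H : IsBC (t' ≫ t) X X'' Q) :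
    h.lift H ≫ X'.hom = X''.hom ≫ t' := h.cart.lift_snd _ _ _

theorem IsBC.isBC_lift (h : IsBC t X X' q) {Q : X''.left ⟶ X.left} (H : IsBC (t' ≫ t) X X'' Q) :
    IsBC t' X' X'' (h.lift H) where
  cart := IsPullback.of_right (by rw [h.lift_fac]; exact H.cart) (h.lift_hom H) h.cart
  unit := by
    apply h.cart.hom_ext
    · rw [Category.assoc, h.lift_fac, H.unit, Category.assoc, Category.assoc, h.unit]
    · rw [Category.assoc, h.lift_hom, ← Category.assoc, unit_hom, Category.assoc, unit_hom]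
      exact (Category.id_comp t').trans (Category.comp_id t').symm

/-- The comparison with the pullback. -/
def IsBC.toBc (h : IsBC t X X' q) : X' ≅ Red.bc t X :=
  Over.isoMk (h.cart.isoPullback) (h.cart.isoPullback_hom_snd)

theorem IsBC.toBc_fst (h : IsBC t X X' q) : h.toBc.hom.left ≫ pullback.fst X.hom t = q :=
  h.cart.isoPullback_hom_fst

theorem IsBC.toBc_inv_q (h : IsBC t X X' q) : h.toBc.inv.left ≫ q = pullback.fst X.hom t :=
  h.cart.isoPullback_inv_fst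

theorem IsBC.unit_toBc (h : IsBC t X X' q) : η[X'] ≫ h.toBc.hom = η[Red.bc t X] := by
  ext1
  apply pullback.hom_ext
  · rw [Over.comp_left, Category.assoc, h.toBc_fst, unit_bc_fst, h.unit]
  · exact (Over.w (η[X'] ≫ h.toBc.hom)).trans (Over.w (η[Red.bc t X] : 𝟙_ (Over S') ⟶ Red.bc t X)).symm

theorem IsBC.isMonHom_toBc (h : IsBC t X X' q) {g : ℕ} (hX : AgPol.IsAbSch X g) : IsMonHom h.toBc.hom :=
  isMonHom_of_unit (isAbSch_of_isPullback h.cart hX) (isAbSch_bc t hX) _ h.unit_toBc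

end basic

section tr

variable {S S' S'' : Scheme.{u}} {t : S' ⟶ S} {t' : S'' ⟶ S'} {X Y Z : Over S} {X' Y' Z' : Over S'}
  {X'' Y'' : Over S''}
  [GrpObj X] [GrpObj X'] [GrpObj X''] [GrpObj Y] [GrpObj Y'] [GrpObj Y''] [GrpObj Z] [GrpObj Z']
  [IsCommMonObj X] [IsCommMonObj X'] [IsCommMonObj X''] [IsCommMonObj Y] [IsCommMonObj Y'] [IsCommMonObj Y'']
  [IsCommMonObj Z] [IsCommMonObj Z']
  {q : X'.left ⟶ X.left} {q' : X''.left ⟶ X'.left} {r : Y'.left ⟶ Y.left} {r' : Y''.left ⟶ Y'.left}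
  {z : Z'.left ⟶ Z.left}

/-- The comparison, as an isomorphism of commutative group schemes. -/
def IsBC.toBcG (h : IsBC t X X' q) {g : ℕ} (hX : AgPol.IsAbSch X g) :
    CommGrp.mk X' ≅ CommGrp.mk (Red.bc t X) :=
  haveI := h.isMonHom_toBc hX
  CommGrp.mkIso' h.toBc

theorem IsBC.toBcG_hom (h : IsBC t X X' q) {g : ℕ} (hX : AgPol.IsAbSch X g) :
    EndAV.Hom.toHom (A := X') (B := Red.bc t X) (h.toBcG hX).hom = h.toBc.hom := rfl

theorem IsBC.toBcG_inv (h : IsBC t X X' q) {g : ℕ} (hX : AgPol.IsAbSch X g) :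
    EndAV.Hom.toHom (A := Red.bc t X) (B := X') (h.toBcG hX).inv = h.toBc.inv := rfl

/-- Base change of homomorphisms. -/
def IsBC.tr (hx : IsBC t X X' q) (hy : IsBC t Y Y' r) {g g' : ℕ} (hX : AgPol.IsAbSch X g) (hY : AgPol.IsAbSch Y g') :
    EndAV.Hom X Y →+ EndAV.Hom X' Y' where
  toFun f := (hx.toBcG hX).hom ≫ bcHom t X Y f ≫ (hy.toBcG hY).inv
  map_zero' := by rw [map_zero, Limits.zero_comp, Limits.comp_zero]
  map_add' f f' := by rw [map_add, Preadditive.add_comp, Preadditive.comp_add]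

theorem IsBC.tr_fac (hx : IsBC t X X' q) (hy : IsBC t Y Y' r) {g g' : ℕ} (hX : AgPol.IsAbSch X g)
    (hY : AgPol.IsAbSch Y g') (f : EndAV.Hom X Y) :
    (hx.tr hy hX hY f).toHom.left ≫ r = q ≫ f.toHom.left := by
  change (hx.toBc.hom.left ≫ ((Over.pullback t).map f.toHom).left ≫ hy.toBc.inv.left) ≫ r = _
  rw [Category.assoc, Category.assoc, hy.toBc_inv_q]
  have h1 : ((Over.pullback t).map f.toHom).left ≫ pullback.fst Y.hom t =
      pullback.fst X.hom t ≫ f.toHom.left := pullback.lift_fst _ _ _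
  rw [h1, ← Category.assoc, hx.toBc_fst]

theorem IsBC.hom_ext (hy : IsBC t Y Y' r) {Z : Over S'} [GrpObj Z] [IsCommMonObj Z] {f f' : EndAV.Hom Z Y'}
    (h : f.toHom.left ≫ r = f'.toHom.left ≫ r) : f = f' := by
  apply EndAV.Hom.ext
  ext1
  apply hy.cart.hom_ext h
  exact (Over.w f.toHom).trans (Over.w f'.toHom).symm

theorem IsBC.tr_eq (hx : IsBC t X X' q) (hy : IsBC t Y Y' r) {g g' : ℕ} (hX : AgPol.IsAbSch X g)
    (hY : AgPol.IsAbSch Y g') {f : EndAV.Hom X Y} {f' : EndAV.Hom X' Y'}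
    (h : f'.toHom.left ≫ r = q ≫ f.toHom.left) : hx.tr hy hX hY f = f' :=
  hy.hom_ext ((hx.tr_fac hy hX hY f).trans h.symm)

theorem IsBC.tr_comp (hx : IsBC t X X' q) (hy : IsBC t Y Y' r) (hz : IsBC t Z Z' z) {g g' g'' : ℕ}
    (hX : AgPol.IsAbSch X g) (hY : AgPol.IsAbSch Y g') (hZ : AgPol.IsAbSch Z g'') (f : EndAV.Hom X Y)
    (f' : EndAV.Hom Y Z) :
    hx.tr hz hX hZ (f ≫ f' : EndAV.Hom X Z) = (hx.tr hy hX hY f ≫ hy.tr hz hY hZ f' : EndAV.Hom X' Z') := by
  apply hx.tr_eq hz hX hZ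
  change ((hx.tr hy hX hY f).toHom ≫ (hy.tr hz hY hZ f').toHom).left ≫ z = q ≫ (f.toHom ≫ f'.toHom).left
  rw [Over.comp_left, Category.assoc, hy.tr_fac hz, ← Category.assoc, hx.tr_fac hy, Category.assoc, Over.comp_left]

theorem IsBC.tr_id (hx : IsBC t X X' q) {g : ℕ} (hX : AgPol.IsAbSch X g) :
    hx.tr hx hX hX (𝟙 (CommGrp.mk X)) = 𝟙 (CommGrp.mk X') := by
  apply hx.tr_eq hx hX hX
  exact (Category.id_comp q).trans (Category.comp_id q).symm

/-- Transitivity. -/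
theorem IsBC.tr_tr (hx : IsBC t X X' q) (hy : IsBC t Y Y' r) (hx' : IsBC t' X' X'' q') (hy' : IsBC t' Y' Y'' r')
    {g g' : ℕ} (hX : AgPol.IsAbSch X g) (hY : AgPol.IsAbSch Y g') (hX' : AgPol.IsAbSch X' g)
    (hY' : AgPol.IsAbSch Y' g') {Q : X''.left ⟶ X.left} {Q' : Y''.left ⟶ Y.left}
    (Hx : IsBC (t' ≫ t) X X'' Q) (Hy : IsBC (t' ≫ t) Y Y'' Q') (hQ : q' ≫ q = Q) (hQ' : r' ≫ r = Q')
    (f : EndAV.Hom X Y) : hx'.tr hy' hX' hY' (hx.tr hy hX hY f) = Hx.tr Hy hX hY f := by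
  symm
  apply Hx.tr_eq Hy hX hY
  rw [← hQ', ← Category.assoc, hx'.tr_fac hy', Category.assoc, hx.tr_fac hy, ← Category.assoc, hQ]

/-- On endomorphisms. -/
def IsBC.trEnd (hx : IsBC t X X' q) {g : ℕ} (hX : AgPol.IsAbSch X g) : EndAV.End X →+* EndAV.End X' where
  toFun := hx.tr hx hX hX
  map_one' := hx.tr_id hX
  map_mul' f f' := hx.tr_comp hx hx hX hX hX f' f
  map_zero' := map_zero _
  map_add' := map_add _

theorem IsBC.trEnd_apply (hx : IsBC t X X' q) {g : ℕ} (hX : AgPol.IsAbSch X g) (f : EndAV.End X) :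
    hx.trEnd hX f = hx.tr hx hX hX f := rfl

/-- `tr` for the standard base change is `bcHom`. -/
theorem tr_bc {g g' : ℕ} (hX : AgPol.IsAbSch X g) (hY : AgPol.IsAbSch Y g') (f : EndAV.Hom X Y) :
    (isBC_bc t X).tr (isBC_bc t Y) hX hY f = bcHom t X Y f := by
  apply (isBC_bc t X).tr_eq (isBC_bc t Y) hX hY
  exact pullback.lift_fst _ _ _

end tr

end K511.HT
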