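import Groth.Agent.AbVar.K511.HT.Iface

/-!
# Honda–Tate existence: the number-theoretic glue nodes of `HTQ`
-/

set_option autoImplicit false
universe u
open CategoryTheory CategoryTheory.Limits MonoidalCategory CartesianMonoidalCategory MonObj GrpObj AlgebraicGeometry
open Groth.Agent.Grpsch.PicGrp
open scoped NumberField Polynomial

noncomputable section

namespace K511.HT

/-- The CM field of a non-real Weil number: `β = ϖ + p / ϖ`, `F = ℚ(β)`, `s = ϖ - p / ϖ`, `d = 4 p - β ^ 2`. -/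
def CMF : Prop := ∀ (p : ℕ) [Fact p.Prime] (L : Type) [Field L] [NumberField L] (ϖ : 𝓞 L),
  Algebra.adjoin ℚ {(ϖ : L)} = ⊤ → (∀ σ : L →+* ℂ, ‖σ ϖ‖ ^ 2 = p) → (∀ σ : L →+* ℂ, (σ ϖ).im ≠ 0) →
  ∃ (c : L ≃+* L) (F : Type) (_ : Field F) (_ : NumberField F) (_ : NumberField.IsTotallyReal F)
    (_ : Algebra F L) (d : 𝓞 F) (s : 𝓞 L),
    c ϖ * ϖ = p ∧ (∀ x, c (c x) = x) ∧ (∀ (φ : L →+* ℂ) x, φ (c x) = star (φ x)) ∧ (∃ x, c x ≠ x) ∧
    (∀ σ : F →+* ℝ, 0 < σ d) ∧ (s : L) ^ 2 = -algebraMap F L d ∧ c s = -s ∧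
    (∀ x : F, c (algebraMap F L x) = algebraMap F L x) ∧ Module.finrank ℚ L = 2 * Module.finrank ℚ F ∧
    ∀ x : L, ∃ a b : F, x = algebraMap F L a + algebraMap F L b * s

/-- The complete discrete valuation ring `W(𝔽_{r²})`. -/
def WIT : Prop := ∀ (r : ℕ), r.Prime → r % 4 = 3 →
  ∃ (W : Type u) (_ : CommRing W) (_ : IsDomain W) (_ : IsDiscreteValuationRing W) (_ : CharZero W)
    (_ : IsAdicComplete (IsLocalRing.maximalIdeal W) W) (iW : W),
    IsLocalRing.maximalIdeal W = Ideal.span {(r : W)} ∧ Nat.card (IsLocalRing.ResidueField W) = r ^ 2 ∧ iW ^ 2 = -1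

/-- All embeddings of `L = F(s)`, `s ^ 2 = -d`, are defined over `Frac W`, and for every CM type `Φ` there is a square
root `h` of `d` mod `r` with `φ(s) / iW = φ(h)` mod `r` for all `φ` in `Φ`. -/
def EMB : Prop := ∀ (F : Type) [Field F] [NumberField F] [NumberField.IsTotallyReal F] (d : 𝓞 F),
  (∀ σ : F →+* ℝ, 0 < σ d) → ∀ (r : ℕ), Good F d r →
  ∀ (L : Type) [Field L] [NumberField L] [Algebra F L] (s : 𝓞 L) (c : L ≃+* L),
  (s : L) ^ 2 = -algebraMap F L d → c s = -s → (∀ x : F, c (algebraMap F L x) = algebraMap F L x) →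
  Module.finrank ℚ L = 2 * Module.finrank ℚ F →
  (∀ x : L, ∃ a b : F, x = algebraMap F L a + algebraMap F L b * s) →
  ∀ (W : Type u) [CommRing W] [IsDomain W] [IsDiscreteValuationRing W] [CharZero W]
    [IsAdicComplete (IsLocalRing.maximalIdeal W) W],
  IsLocalRing.maximalIdeal W = Ideal.span {(r : W)} → Nat.card (IsLocalRing.ResidueField W) = r ^ 2 →
  ∀ (iW : W), iW ^ 2 = -1 →
  ∃ (M : Type) (_ : Field M) (_ : NumberField M) (ε : M →+* FractionRing W),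
    Nat.card (L →+* M) = Module.finrank ℚ L ∧
    ∀ Φ : Set (L →+* M), (∀ φ : L →+* M, φ ∈ Φ ↔ φ.comp (c : L →+* L) ∉ Φ) →
      ∃ h : 𝓞 F, h ^ 2 - d ∈ Ideal.span {(r : 𝓞 F)} ∧ ∀ φ ∈ Φ, ∃ (φ₀ : 𝓞 F →+* W) (t : W),
        (∀ a : 𝓞 F, algebraMap W (FractionRing W) (φ₀ a) = ε (φ (algebraMap F L a))) ∧
        algebraMap W (FractionRing W) (t * iW) = ε (φ s) ∧ t - φ₀ h ∈ IsLocalRing.maximalIdeal W

end K511.HT
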