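import Groth.Agent.AbVar.K511.HT.Iface
import Mathlib.RingTheory.Filtration

/-!
# Honda–Tate existence: small nodes of `CMW`
-/

set_option autoImplicit false
universe u
open CategoryTheory CategoryTheory.Limits MonoidalCategory CartesianMonoidalCategory MonObj GrpObj AlgebraicGeometry
open Groth.Agent.Grpsch.PicGrp
open scoped NumberField Polynomial

noncomputable section

namespace K511.HT

/-- Powers of an abelian scheme of relative dimension one. -/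
def PW : Prop := ∀ (S : Scheme.{u}) (E : Over S) [GrpObj E] [IsCommMonObj E], AgPol.IsAbSch E 1 → ∀ g : ℕ,
  ∃ (A : Over S) (_ : GrpObj A) (_ : IsCommMonObj A) (p : Fin g → (A ⟶ E)), IsPow E A p ∧ AgPol.IsAbSch A g

/-- Square roots of `δ` modulo powers of `r`, and inverses up to an integer prime to `r`. -/
def XI : Prop := ∀ (F : Type) [Field F] [NumberField F] (δ x y z : 𝓞 F) (r : ℕ), Good F δ r →
  x ^ 2 + r * (y ^ 2 + z ^ 2) = δ →
  ∃ ξ : ℕ → 𝓞 F, (∀ n, ξ n ^ 2 - δ ∈ Ideal.span {(r : 𝓞 F) ^ n}) ∧ (∀ n, ξ n - x ∈ Ideal.span {(r : 𝓞 F)}) ∧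
    (∀ n m, n ≤ m → ξ m - ξ n ∈ Ideal.span {(r : 𝓞 F) ^ n}) ∧
    ∀ n, Ideal.span {(ξ n + x) ^ 2 + r * (y ^ 2 + z ^ 2)} ⊔ Ideal.span {(r : 𝓞 F)} = ⊤ ∧
      ∃ (m : ℕ) (c' : 𝓞 F), ¬ r ∣ m ∧ ((ξ n + x) ^ 2 + r * (y ^ 2 + z ^ 2)) * c' = m

/-- Approximate eigenvectors give eigenvectors (Artin–Rees). -/
def EV : Prop := ∀ (W : Type u) [CommRing W] [IsDomain W] [IsNoetherianRing W] (r : W), r ≠ 0 → ∀ (Λ : Type u)
  [AddCommGroup Λ] [Module W Λ] [Module.Finite W Λ] [Module.Free W Λ] (O : Type) [CommRing O] [Module.Finite ℤ O]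
  (ρ : O →+* Module.End W Λ) (φ : O →+* W) (c : ℕ),
  (∀ n : ℕ, ∃ v : Λ, (¬ ∃ w, v = r ^ c • w) ∧ ∀ b : O, ∃ w, ρ b v - φ b • v = r ^ n • w) →
  ∃ v : Λ, v ≠ 0 ∧ ∀ b, ρ b v = φ b • v

/-- The eigenvectors of the regular representation of `𝓞 F` (column vectors; `adj(T)` times `(φ (b j))`). -/
def REG : Prop := ∀ (F : Type) [Field F] [NumberField F] (g : ℕ) (b : Module.Basis (Fin g) ℤ (𝓞 F))
  (W : Type u) [CommRing W] [IsDomain W] [CharZero W] (φ : 𝓞 F →+* W),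
  ∃ s : Fin g → W, s ≠ 0 ∧ ∀ a : 𝓞 F, ((Algebra.leftMulMatrix b a).map (Int.cast : ℤ → W)).mulVec s = φ a • s

end K511.HT
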