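import Groth.Agent.AbVar.K511.HT.Iface
import Groth.Agent.AbVar.K511.HT.Iface3
import Groth.Agent.AbVar.K511.HT.Iface2

/-!
# Honda–Tate existence: the two halves of `CMW`

`CMA` (helper511): the algebraized abelian scheme with its action of `𝓞 F[√-δ]` and its comparison, modulo
`r ^ (n + 1)`, with the isogeny `v : A ⟶ X`.
`CMB` : the eigenvectors: `CMA → ELL → PW → XI → EV → REG → CMW`.
-/

set_option autoImplicit false
universe u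
open CategoryTheory CategoryTheory.Limits MonoidalCategory CartesianMonoidalCategory MonObj GrpObj AlgebraicGeometry
open Groth.Agent.Grpsch.PicGrp
open scoped NumberField Polynomial

noncomputable section

namespace K511.HT

/-- `AdjoinRoot (X ^ 2 + δ)`. -/
abbrev OD (F : Type) [Field F] (δ : 𝓞 F) : Type :=
  AdjoinRoot (Polynomial.X ^ 2 + Polynomial.C δ : (𝓞 F)[X])

def CMA : Prop := ∀ (r : ℕ), r.Prime → r % 4 = 3 → ∀ (W : Type u) [CommRing W] [IsDomain W]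
  [IsDiscreteValuationRing W] [CharZero W] [IsAdicComplete (IsLocalRing.maximalIdeal W) W],
  IsLocalRing.maximalIdeal W = Ideal.span {(r : W)} →
  ∀ (D : EData r W) (F : Type) [Field F] [NumberField F] [NumberField.IsTotallyReal F]
  (δ x y z : 𝓞 F), x ^ 2 + r * (y ^ 2 + z ^ 2) = δ → Good F δ r →
  ∀ (g : ℕ) (b : Module.Basis (Fin g) ℤ (𝓞 F)) (A : Over (Spc W)) [GrpObj A] [IsCommMonObj A]
    (p : Fin g → (A ⟶ D.E)), IsPow D.E A p → AgPol.IsAbSch A g →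
  ∀ (ξ : ℕ → 𝓞 F), (∀ n, ξ n ^ 2 - δ ∈ Ideal.span {(r : 𝓞 F) ^ n}) → (∀ n, ξ n - x ∈ Ideal.span {(r : 𝓞 F)}) →
    (∀ n m, n ≤ m → ξ m - ξ n ∈ Ideal.span {(r : 𝓞 F) ^ n}) →
    (∀ n, Ideal.span {(ξ n + x) ^ 2 + r * (y ^ 2 + z ^ 2)} ⊔ Ideal.span {(r : 𝓞 F)} = ⊤ ∧
      ∃ (m : ℕ) (c' : 𝓞 F), ¬ r ∣ m ∧ ((ξ n + x) ^ 2 + r * (y ^ 2 + z ^ 2)) * c' = m) →
  ∃ (Y : Over (Spc W)) (_ : GrpObj Y) (_ : IsCommMonObj Y) (_ : AgPol.IsAbSch Y g) (ρ : OD F δ →+* EndAV.End Y),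
    ∀ n : ℕ, ∃ (N : ℕ) (_ : n + 1 ≤ N) (X : Over (Spc W)) (_ : GrpObj X) (_ : IsCommMonObj X)
      (_ : AgPol.IsAbSch X g) (m : ℕ) (_ : ¬ r ∣ m) (v : EndAV.Hom A X) (w : EndAV.Hom X A)
      (_ : v ≫ w = (m : EndAV.End A)) (_ : w ≫ v = (m : EndAV.End X))
      (ε : Red.bc (CohB1.specQuot (IsLocalRing.maximalIdeal W) n) Y ≅
        Red.bc (CohB1.specQuot (IsLocalRing.maximalIdeal W) n) X) (_ : IsMonHom ε.hom),
      ∀ (a₀ a₁ : 𝓞 F) (h₀ h₁ : EndAV.End A), IsRep p b 1 a₀ h₀ → IsRep p b D.i (a₁ * ξ N) h₁ →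
        ∃ κ : EndAV.End (Red.bc (CohB1.specQuot (IsLocalRing.maximalIdeal W) n) X),
          ε.inv ≫ (bcEnd (CohB1.specQuot (IsLocalRing.maximalIdeal W) n) Y
              ((m : EndAV.End Y) * ρ (AdjoinRoot.of _ a₀ + AdjoinRoot.of _ a₁ * AdjoinRoot.root _))).toHom ≫ ε.hom =
            (bcEnd (CohB1.specQuot (IsLocalRing.maximalIdeal W) n) X
              ((w ≫ (h₀ + h₁ : EndAV.Hom A A) ≫ v : EndAV.Hom X X) : EndAV.End X) + (r : EndAV.End _) ^ (n + 1) * κ).toHom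

/-- The eigenvector half. -/
def CMB : Prop := CMA.{u} → ELL.{u} → PW.{u} → XI → EV.{u} → REG.{u} → CMW.{u}

/-- The assembly of `HTQ`. -/
def HTQG : Prop := NT1 → NT2 → NT3 → NT4 → CMF → WIT.{u} → EMB.{u} → CMW.{u} → SP.{u} → OL.{u} → RED.{u} → ST.{u} →
  WEIL.{u} → HTQ.{u}

end K511.HT
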