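import Groth.Agent.AbVar.K511.HT.Twr2
import Groth.Agent.AbVar.K530.HTCls

/-!
# `CMA`: algebraization of the tower
-/

set_option autoImplicit false
set_option linter.unusedSectionVars false
universe u
open CategoryTheory CategoryTheory.Limits MonoidalCategory CartesianMonoidalCategory MonObj GrpObj AlgebraicGeometry
open Groth.Agent.Grpsch.PicGrp
open scoped NumberField Polynomial

noncomputable section

namespace K511.HT

section hom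

variable {S S' : Scheme.{u}} {t : S' ⟶ S} {X Y : Over S} {X' Y' : Over S'}
  [GrpObj X] [GrpObj X'] [GrpObj Y] [GrpObj Y'] [IsCommMonObj X] [IsCommMonObj X'] [IsCommMonObj Y] [IsCommMonObj Y']
  {q : X'.left ⟶ X.left} {s : Y'.left ⟶ Y.left}

theorem IsBC.hom_eq (hx : IsBC t X X' q) (hy : IsBC t Y Y' s) {g g' : ℕ} (hX : AgPol.IsAbSch X g)
    (hY : AgPol.IsAbSch Y g') (hi : Function.Injective (hx.tr hy hX hY)) (f f' : EndAV.Hom X Y)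
    (h : q ≫ f.toHom.left = q ≫ f'.toHom.left) : f = f' := by
  apply hi
  apply hy.hom_ext
  rw [hx.tr_fac hy hX hY, hx.tr_fac hy hX hY, h]

end hom

variable {r : ℕ} {W : Type u} [CommRing W] [IsDomain W] [IsDiscreteValuationRing W]
  {D : EData r W} {F : Type} [Field F] [NumberField F] {g : ℕ} {b : Module.Basis (Fin g) ℤ (𝓞 F)}
  {A : Over (Spc W)} [GrpObj A] [IsCommMonObj A] {p : Fin g → (A ⟶ D.E)} {hp : IsPow D.E A p}
  {x y z ξ : 𝓞 F}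

/-- The embedding of the special fibre in level `n`. -/
abbrev Lvl.s (ℓ : Lvl D b hp x y z ξ) (n : ℕ) : (Ak A).left ⟶ (At n ℓ.X).left := ℓ.bc.sat n

theorem Lvl.hs (ℓ : Lvl D b hp x y z ξ) (n : ℕ) : IsBC (spm (pin W n)) (At n ℓ.X) (Ak A) (ℓ.s n) := ℓ.bc.isBC_sat n

/-- The embedding of the special fibre in the reduction of level `n + 1` to level `n`. -/
def Lvl.s' (ℓ : Lvl D b hp x y z ξ) (n : ℕ) : (Ak A).left ⟶
    (Red.bc (CohB1.specQuotTrans (IsLocalRing.maximalIdeal W) n) (At (n + 1) ℓ.X)).left :=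
  (isBC_bc (CohB1.specQuotTrans (IsLocalRing.maximalIdeal W) n) (At (n + 1) ℓ.X)).lift
    ((ℓ.hs (n + 1)).congr (spm_pin_trans W n).symm)

theorem Lvl.hs' (ℓ : Lvl D b hp x y z ξ) (n : ℕ) : IsBC (spm (pin W n))
    (Red.bc (CohB1.specQuotTrans (IsLocalRing.maximalIdeal W) n) (At (n + 1) ℓ.X)) (Ak A) (ℓ.s' n) :=
  (isBC_bc (CohB1.specQuotTrans (IsLocalRing.maximalIdeal W) n) (At (n + 1) ℓ.X)).isBC_lift
    ((ℓ.hs (n + 1)).congr (spm_pin_trans W n).symm)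

theorem Lvl.s'_fst (ℓ : Lvl D b hp x y z ξ) (n : ℕ) :
    ℓ.s' n ≫ pullback.fst (At (n + 1) ℓ.X).hom (CohB1.specQuotTrans (IsLocalRing.maximalIdeal W) n) = ℓ.s (n + 1) :=
  (isBC_bc (CohB1.specQuotTrans (IsLocalRing.maximalIdeal W) n) (At (n + 1) ℓ.X)).lift_fac
    ((ℓ.hs (n + 1)).congr (spm_pin_trans W n).symm)

/-- The double reduction. -/
theorem exists_iso_red (ℓ : Lvl D b hp x y z ξ) (n : ℕ) :
    ∃ (e : Red.bc (CohB1.specQuotTrans (IsLocalRing.maximalIdeal W) n) (At (n + 1) ℓ.X) ≅ At n ℓ.X)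
      (_ : IsMonHom e.hom), ℓ.s' n ≫ e.hom.left = ℓ.s n := by
  have h1 : IsBC (CohB1.specQuotTrans (IsLocalRing.maximalIdeal W) n ≫
      CohB1.specQuot (IsLocalRing.maximalIdeal W) (n + 1)) ℓ.X
      (Red.bc (CohB1.specQuotTrans (IsLocalRing.maximalIdeal W) n) (At (n + 1) ℓ.X)) _ :=
    (isBC_bc _ ℓ.X).comp (isBC_bc _ (At (n + 1) ℓ.X))
  have h2 : IsBC (CohB1.specQuot (IsLocalRing.maximalIdeal W) n) ℓ.X
      (Red.bc (CohB1.specQuotTrans (IsLocalRing.maximalIdeal W) n) (At (n + 1) ℓ.X)) _ :=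
    h1.congr (CohB1.specQuotTrans_specQuot _ n)
  refine ⟨h2.toBc, h2.isMonHom_toBc ℓ.ab, ?_⟩
  apply (isBC_bc (CohB1.specQuot (IsLocalRing.maximalIdeal W) n) ℓ.X).cart.hom_ext
  · rw [Category.assoc, h2.toBc_fst, ← Category.assoc, ℓ.s'_fst, ℓ.bc.sat_fst, ℓ.bc.sat_fst]
  · rw [Category.assoc]
    have h3 : h2.toBc.hom.left ≫ (At n ℓ.X).hom = _ := Over.w h2.toBc.hom
    have h4 := (ℓ.hs n).cart.w
    have h5 := (ℓ.hs' n).cart.w
    rw [h3, h5]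
    exact h4.symm

/-- The transition isomorphisms. -/
theorem exists_e (hL : LIFT.{u}) (hr : r.Prime) (hrm : (r : W) ∈ IsLocalRing.maximalIdeal W)
    (hA : AgPol.IsAbSch A g) (ℓ : Lvl D b hp x y z ξ) {ξ₂ : 𝓞 F} (ℓ₂ : Lvl D b hp x y z ξ₂) (n : ℕ)
    (h : ξ₂ - ξ ∈ Ideal.span {(r : 𝓞 F) ^ n}) :
    ∃ (e : Red.bc (CohB1.specQuotTrans (IsLocalRing.maximalIdeal W) n) (At (n + 1) ℓ₂.X) ≅ At n ℓ.X)
      (_ : IsMonHom e.hom), ℓ₂.s' n ≫ e.hom.left = ℓ.s n := by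
  obtain ⟨a, ha⟩ := ℓ.exists_trans hL hr hrm hA ℓ₂ n n le_rfl h
  obtain ⟨c, hc⟩ := ℓ₂.exists_trans hL hr hrm hA ℓ n n le_rfl (by
    rw [← neg_sub]
    exact neg_mem h)
  obtain ⟨e₁, he₁, h₁⟩ := exists_iso_of_lifts (ℓ.hs n) (ℓ₂.hs n) (isAbSch_bc _ ℓ.ab) (isAbSch_bc _ ℓ₂.ab)
    (tr_inj hL hrm _ _ _ _) (tr_inj hL hrm _ _ _ _) a ha c hc
  obtain ⟨e₂, he₂, h₂⟩ := exists_iso_red ℓ₂ n
  refine ⟨e₂ ≪≫ e₁, ?_, ?_⟩
  · rw [Iso.trans_hom]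
    infer_instance
  · rw [Iso.trans_hom, Over.comp_left, ← Category.assoc, h₂, h₁]

/-- Compatibility with the action. -/
theorem e_rho (hL : LIFT.{u}) (hrm : (r : W) ∈ IsLocalRing.maximalIdeal W)
    (ℓ : Lvl D b hp x y z ξ) {ξ₂ : 𝓞 F} (ℓ₂ : Lvl D b hp x y z ξ₂) (n : ℕ)
    (e : Red.bc (CohB1.specQuotTrans (IsLocalRing.maximalIdeal W) n) (At (n + 1) ℓ₂.X) ≅ At n ℓ.X)
    [IsMonHom e.hom] (he : ℓ₂.s' n ≫ e.hom.left = ℓ.s n) (f : EndAV.End (At n ℓ.X))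
    (f₂ : EndAV.End (At (n + 1) ℓ₂.X)) (h : ℓ.T n f = ℓ₂.T (n + 1) f₂) :
    (Over.pullback (CohB1.specQuotTrans (IsLocalRing.maximalIdeal W) n)).map f₂.toHom ≫ e.hom = e.hom ≫ f.toHom := by
  have hX' := isAbSch_bc (CohB1.specQuotTrans (IsLocalRing.maximalIdeal W) n)
    (isAbSch_bc (CohB1.specQuot (IsLocalRing.maximalIdeal W) (n + 1)) ℓ₂.ab)
  let u₁ : EndAV.Hom (Red.bc (CohB1.specQuotTrans (IsLocalRing.maximalIdeal W) n) (At (n + 1) ℓ₂.X)) (At n ℓ.X) :=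
    ((bcEnd (CohB1.specQuotTrans (IsLocalRing.maximalIdeal W) n) (At (n + 1) ℓ₂.X) f₂ :
      EndAV.End (Red.bc (CohB1.specQuotTrans (IsLocalRing.maximalIdeal W) n) (At (n + 1) ℓ₂.X))) :
      EndAV.Hom _ _) ≫ EndAV.Hom.of e.hom
  let u₂ : EndAV.Hom (Red.bc (CohB1.specQuotTrans (IsLocalRing.maximalIdeal W) n) (At (n + 1) ℓ₂.X)) (At n ℓ.X) :=
    EndAV.Hom.of e.hom ≫ (f : EndAV.Hom _ _)
  have key : u₁ = u₂ := by
    refine (ℓ₂.hs' n).hom_eq (ℓ.hs n) hX' (isAbSch_bc _ ℓ.ab) (tr_inj hL hrm _ _ _ _) _ _ ?_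
    have h1 : ℓ₂.s' n ≫ ((Over.pullback (CohB1.specQuotTrans (IsLocalRing.maximalIdeal W) n)).map f₂.toHom).left =
        (ℓ₂.T (n + 1) f₂).toHom.left ≫ ℓ₂.s' n := by
      apply (isBC_bc (CohB1.specQuotTrans (IsLocalRing.maximalIdeal W) n) (At (n + 1) ℓ₂.X)).cart.hom_ext
      · have h2 : ((Over.pullback (CohB1.specQuotTrans (IsLocalRing.maximalIdeal W) n)).map f₂.toHom).left ≫
            pullback.fst (At (n + 1) ℓ₂.X).hom (CohB1.specQuotTrans (IsLocalRing.maximalIdeal W) n) =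
          pullback.fst (At (n + 1) ℓ₂.X).hom (CohB1.specQuotTrans (IsLocalRing.maximalIdeal W) n) ≫ f₂.toHom.left :=
          pullback.lift_fst _ _ _
        rw [Category.assoc, h2, ← Category.assoc, ℓ₂.s'_fst, Category.assoc, ℓ₂.s'_fst]
        exact ((ℓ₂.hs (n + 1)).tr_fac (ℓ₂.hs (n + 1)) (isAbSch_bc _ ℓ₂.ab) (isAbSch_bc _ ℓ₂.ab) f₂).symm
      · rw [Category.assoc]
        have h3 : ((Over.pullback (CohB1.specQuotTrans (IsLocalRing.maximalIdeal W) n)).map f₂.toHom).left ≫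
          (Red.bc (CohB1.specQuotTrans (IsLocalRing.maximalIdeal W) n) (At (n + 1) ℓ₂.X)).hom = _ :=
          Over.w ((Over.pullback (CohB1.specQuotTrans (IsLocalRing.maximalIdeal W) n)).map f₂.toHom)
        have h4 := (ℓ₂.hs' n).cart.w
        have h5 : (ℓ₂.T (n + 1) f₂).toHom.left ≫ (Ak A).hom = (Ak A).hom := Over.w _
        rw [h3, Category.assoc]
        exact h4.trans ((congrArg (· ≫ spm (pin W n)) h5.symm).trans
          ((Category.assoc _ _ _).trans (congrArg ((ℓ₂.T (n + 1) f₂).toHom.left ≫ ·) h4.symm)))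
    change ℓ₂.s' n ≫ (((Over.pullback (CohB1.specQuotTrans (IsLocalRing.maximalIdeal W) n)).map f₂.toHom) ≫
      e.hom).left = ℓ₂.s' n ≫ (e.hom ≫ f.toHom).left
    rw [Over.comp_left, Over.comp_left, ← Category.assoc, h1, ← h, Category.assoc, he, ← Category.assoc, he]
    exact (ℓ.hs n).tr_fac (ℓ.hs n) (isAbSch_bc _ ℓ.ab) (isAbSch_bc _ ℓ.ab) f
  exact congrArg EndAV.Hom.toHom key

/-- The classes. -/
theorem exists_L [IsAdicComplete (IsLocalRing.maximalIdeal W) W] [NumberField.IsTotallyReal F] (hLB : LB.{u})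
    (hr : r.Prime) (hr4 : r % 4 = 3)
    (hrm : IsLocalRing.maximalIdeal W = Ideal.span {(r : W)}) (hA : AgPol.IsAbSch A g) :
    ∃ M : Pic (Ak A).left, IsAmpleCl M ∧
      ∀ {x y z ξ : 𝓞 F}, Ideal.span {(ξ + x) ^ 2 + r * (y ^ 2 + z ^ 2)} ⊔ Ideal.span {(r : 𝓞 F)} = ⊤ →
      ∀ (ℓ : Lvl D b hp x y z ξ) (n : ℕ), ∃ L : Pic (At n ℓ.X).left, IsSymm (At n ℓ.X) L ∧ pull (ℓ.s n) L = M := by
  obtain ⟨MT, h1, h2, h3⟩ := hLB r hr hr4 W hrm D F g b A p hp hA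
  refine ⟨MT ^ 2, K530.HTCls.amp_sq h1, fun {x y z ξ} hc ℓ n => ?_⟩
  have hrm' : (r : W) ∈ IsLocalRing.maximalIdeal W := by
    rw [hrm]
    exact Ideal.mem_span_singleton_self _
  obtain ⟨L, hL, hL'⟩ := h3 x y z ξ hc _ _ _ (rp_isRep b (hpk D hp) (ξ + x) (ik D)) (rp_isRep b (hpk D hp) y D.F)
    (rp_isRep b (hpk D hp) z (ik D * D.F)) ℓ.X ℓ.ab ℓ.m ℓ.v ℓ.w ℓ.e ℓ.he
    (natCast_ne_zero_of_not_dvd hr hrm' ℓ.hm) ℓ.vw ℓ.wv ℓ.hv n
  refine ⟨L, hL, ?_⟩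
  have h4 := hL' ((isBC_bc (spm (IsLocalRing.residue W)) ℓ.X).sat n) ((isBC_bc _ ℓ.X).sat_fst n)
  have h5 : ℓ.s n = ℓ.e.inv.left ≫ (isBC_bc (spm (IsLocalRing.residue W)) ℓ.X).sat n := by
    apply (isBC_bc (CohB1.specQuot (IsLocalRing.maximalIdeal W) n) ℓ.X).cart.hom_ext
    · rw [ℓ.bc.sat_fst, Category.assoc, IsBC.sat_fst]
    · rw [Category.assoc, (ℓ.hs n).cart.w, ((isBC_bc (spm (IsLocalRing.residue W)) ℓ.X).isBC_sat n).cart.w,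
        ← Category.assoc]
      congr 1
      exact (Over.w ℓ.e.inv).symm
  rw [h5, pull_comp, h4, ← pull_comp, ← Over.comp_left, Iso.inv_hom_id]
  exact pull_id _

/-- The node `CMA`. -/
theorem cma (hET : ET.{u}) (hL : LIFT.{u}) (hAlg : ALG.{u}) (hLB : LB.{u}) (hU : LBU.{u}) : CMA.{u} := by
  intro r hr hr4 W _ _ _ _ _ hrm D F _ _ _ δ x y z hδ hG g b A _ _ p hp hA ξ hξ1 hξ2 hξ3 hξ4
  have hrm' : (r : W) ∈ IsLocalRing.maximalIdeal W := by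
    rw [hrm]
    exact Ideal.mem_span_singleton_self _
  have hnd : ¬ r ∣ 2 := fun h => by
    have := Nat.le_of_dvd two_pos h
    interval_cases r <;> omega
  have h2 : ((2 : ℕ) : IsLocalRing.ResidueField W) ≠ 0 := natCast_ne_zero_of_not_dvd hr hrm' hnd
  have hℓ : ∀ n, Nonempty (Lvl D b hp x y z (ξ (2 * n + 1))) := fun n =>
    exists_lvl D b hp hET hr hrm' hA x y z _ (hξ4 _).2
  let ℓ : ∀ n, Lvl D b hp x y z (ξ (2 * n + 1)) := fun n => (hℓ n).some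
  obtain ⟨P, hPof, hProot⟩ := exists_OD_hom (δ := δ) (nuk D b hp) (V D b hp x y z)
    (fun a => nuk_comm D b hp a x y z) (by rw [V_mul_V, hδ])
  have hρ : ∀ n, ∃ ρ : OD F δ →+* EndAV.End (At n (ℓ n).X), ∀ β, (ℓ n).T n (ρ β) = P β := fun n =>
    (ℓ n).exists_rho hδ P hPof hProot hL hr hrm' hA n (2 * n + 1) (by omega) (hξ1 _)
  choose ρ hρ' using hρ
  have hsub : ∀ n, ξ (2 * (n + 1) + 1) - ξ (2 * n + 1) ∈ Ideal.span {(r : 𝓞 F) ^ n} := fun n => by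
    refine Ideal.span_singleton_le_span_singleton.2 ?_ (hξ3 (2 * n + 1) (2 * (n + 1) + 1) (by omega))
    exact pow_dvd_pow _ (by omega)
  have he := fun n => exists_e hL hr hrm' hA (ℓ n) (ℓ (n + 1)) n (hsub n)
  choose e he1 he2 using he
  obtain ⟨M, hM, hM'⟩ := exists_L (D := D) (b := b) (hp := hp) hLB hr hr4 hrm hA
  have hLn := fun n => hM' (hξ4 (2 * n + 1)).1 (ℓ n) n
  choose Ln hLs hLp using hLn
  have hcomp : ∀ n, pull ((e n).inv.left ≫ pullback.fst (At (n + 1) (ℓ (n + 1)).X).hom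
      (CohB1.specQuotTrans (IsLocalRing.maximalIdeal W) n)) (Ln (n + 1)) = Ln n := by
    intro n
    have := he1 n
    have h3 : IsBC (CohB1.specQuotTrans (IsLocalRing.maximalIdeal W) n) (At (n + 1) (ℓ (n + 1)).X) (At n (ℓ n).X)
        ((e n).inv.left ≫ pullback.fst (At (n + 1) (ℓ (n + 1)).X).hom
          (CohB1.specQuotTrans (IsLocalRing.maximalIdeal W) n)) :=
      haveI : IsMonHom (e n).inv := inferInstance
      isBC_of_iso (he := this) (e n).symm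
    have h4 : (ℓ n).s n ≫ (e n).inv.left ≫ pullback.fst (At (n + 1) (ℓ (n + 1)).X).hom
        (CohB1.specQuotTrans (IsLocalRing.maximalIdeal W) n) = (ℓ (n + 1)).s (n + 1) := by
      rw [← he2 n, Category.assoc, ← Over.comp_left_assoc, Iso.hom_inv_id, ← (ℓ (n + 1)).s'_fst]
      exact congrArg ((ℓ (n + 1)).s' n ≫ ·) (Category.id_comp _)
    have h5 : pull ((ℓ n).s n) (pull ((e n).inv.left ≫ pullback.fst (At (n + 1) (ℓ (n + 1)).X).hom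
        (CohB1.specQuotTrans (IsLocalRing.maximalIdeal W) n)) (Ln (n + 1))) = M := by
      rw [← pull_comp, h4, hLp]
    exact K530.HTCls.uniq W hU h2 n ((ℓ n).hs n) (isAbSch_bc _ (ℓ n).ab) _ _
      (K530.HTCls.symm_pull h3 (isAbSch_bc _ (ℓ (n + 1)).ab) (hLs (n + 1))) (hLs n)
      (by rw [h5, hLp]) (by rw [h5]; exact hM)
  have hρe : ∀ n β, (Over.pullback (CohB1.specQuotTrans (IsLocalRing.maximalIdeal W) n)).map (ρ (n + 1) β).toHom ≫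
      (e n).hom = (e n).hom ≫ (ρ n β).toHom := fun n β => by
    have := he1 n
    exact e_rho hL hrm' (ℓ n) (ℓ (n + 1)) n (e n) (he2 n) _ _ ((hρ' n β).trans (hρ' (n + 1) β).symm)
  obtain ⟨Y, i1, i2, hY, ρ', ε, hε, hερ⟩ := hAlg W g (fun n => At n (ℓ n).X)
    (fun n => isAbSch_bc _ (ℓ n).ab) e he1 Ln hcomp
    (K530.HTCls.amp_zero W ((ℓ 0).hs 0) (Ln 0) (by rw [hLp]; exact hM)) (OD F δ) ρ hρe
  refine ⟨Y, i1, i2, hY, ρ', fun n => ⟨2 * n + 1, by omega, (ℓ n).X, (ℓ n).grp, (ℓ n).comm, (ℓ n).ab, (ℓ n).m,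
    (ℓ n).hm, (ℓ n).v, (ℓ n).w, (ℓ n).vw, (ℓ n).wv, ε n, hε n, fun a₀ a₁ h₀ h₁ hh₀ hh₁ => ?_⟩⟩
  obtain ⟨κ, hκ⟩ := (ℓ n).exists_kappa hδ P hPof hProot hL hrm' hA n (hξ1 _) a₀ a₁
  refine ⟨κ, ?_⟩
  have hh₀' := rp_eq b hp hh₀
  have hh₁' := rp_eq b hp hh₁
  subst hh₀' hh₁'
  have h6 := (hρ' n (((ℓ n).m : OD F δ) * (AdjoinRoot.of _ a₀ + AdjoinRoot.of _ a₁ * AdjoinRoot.root _)))
  rw [map_mul P, map_natCast P, hκ] at h6
  have h6' := (ℓ n).T_injective hL hrm' n h6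
  have h7 : ((ℓ n).m : EndAV.End Y) * ρ' (AdjoinRoot.of _ a₀ + AdjoinRoot.of _ a₁ * AdjoinRoot.root _) =
      ρ' (((ℓ n).m : OD F δ) * (AdjoinRoot.of _ a₀ + AdjoinRoot.of _ a₁ * AdjoinRoot.root _)) := by
    rw [map_mul, map_natCast]
  rw [h7]
  have h8 := hερ n (((ℓ n).m : OD F δ) * (AdjoinRoot.of _ a₀ + AdjoinRoot.of _ a₁ * AdjoinRoot.root _))
  rw [h6'] at h8
  exact (Iso.inv_comp_eq _).2 h8

end K511.HT
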