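import Groth.Agent.AbVar.K511.HT.CMA
import Groth.Agent.AbDual.K732.HCMB
import Groth.Agent.AbDual.K732.HLb
import Groth.Agent.AbDual.K732.HLbu
import Groth.Agent.AbVar.K869.Ell
import Groth.Agent.AbVar.K151.HTPw
import Groth.Agent.AbVar.K151.HTLift
import Groth.Agent.AbVar.K151.HTAlg
import Groth.Agent.AbVar.K229.XI
import Groth.Agent.AbVar.K516.HTEv
import Groth.Agent.AbVar.K516.HTReg
import Groth.Agent.AbVar.K613.EtIface

/-!
# `CMW` unconditionally
-/

set_option autoImplicit false
universe u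

namespace K511.HT

theorem cmaMain : CMA.{u} :=
  cma K613.EtIface.main.{u} K151.HTLift.main.{u} K151.HTAlg.main.{u} (K732.HLb.main K151.HTLift.main.{u}) K732.HLbu.main.{u}

theorem cmwMain : CMW.{u} :=
  K732.HCMB.main.{u} cmaMain.{u} K869.Ell.main.{u} K151.HTPw.main.{u} K229.XI.main K516.HTEv.main.{u} K516.HTReg.main.{u}

end K511.HT
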