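import Groth.Agent.AbVar.K511.HT.CMWMain
import Groth.Agent.AbVar.K229.NTG
import Groth.Agent.AbVar.K229.NT4
import Groth.Agent.AbVar.K940.Nt3
import Groth.Agent.AbVar.K940.RedMain
import Groth.Agent.AbVar.K530.HTCmf
import Groth.Agent.AbVar.K517.HTWIT
import Groth.Agent.AbVar.K517.HTOL
import Groth.Agent.AbVar.K613.EmbMain
import Groth.Agent.AbVar.K510.HT.SP
import Groth.Agent.AbVar.K324.STMain
import Groth.Agent.AbVar.K525.WeilRH
import Groth.Agent.AbVar.K525.LatFin
import Groth.Agent.AbVar.K515.HTE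

/-!
# Honda–Tate: all the nodes together
-/

set_option autoImplicit false
universe u

namespace K511.HT

/-- All the nodes of `HTQG`. -/
theorem htqOf (h : HTQG.{u}) : HTQ.{u} :=
  h K229.NTG.main1 K229.NTG.main2 K940.Nt3.main K229.NT4.main K530.HTCmf.main K517.HTWIT.main.{u} K613.EmbMain.main.{u}
    cmwMain.{u} K510.HT.SP.main.{u} K517.HTOL.main.{u} K940.RedMain.main.{u} K324.STMain.main.{u}
    K525.WeilRH.main.{u}

theorem hteOf (h : HTQG.{u}) : HTE.{u} := K515.HTE.main.{u} (htqOf h)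

end K511.HT
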