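import Groth.Agent.AbVar.K511.HT.LieFun
import Mathlib.RingTheory.Smooth.StandardSmoothCotangent
import Mathlib.AlgebraicGeometry.Morphisms.Smooth

/-!
# The Lie algebra of a smooth group scheme over a local ring

`exists_coord`: for `G` smooth of relative dimension `g` over a local ring `R` there are `B`-linear bijections
`LL f G ≃ (Fin g → B)`, natural in `f : Spec B ⟶ Spec R`.
-/

set_option autoImplicit false
set_option linter.unusedSectionVars false
universe u
open CategoryTheory CategoryTheory.Limits MonoidalCategory CartesianMonoidalCategory MonObj GrpObj AlgebraicGeometry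
open LieS K988.LieModel K988.LieCalc K988.LieScale
open Groth.Agent.FlatB.PushRing

noncomputable section

namespace K511.HT

/-- An affine chart around the unit section with coordinates. -/
structure Chart (R : Type u) [CommRing R] (G : Over (Spc R)) [GrpObj G] (g : ℕ) where
  C : Type u
  [cr : CommRing C]
  [alg : Algebra R C]
  j : Spc C ⟶ G.left
  [oi : IsOpenImmersion j]
  hj : j ≫ G.hom = spm (algebraMap R C)
  e : C →ₐ[R] R
  he : spm (e : C →+* R) ≫ j = (η[G] : 𝟙_ (Over (Spc R)) ⟶ G).left
  x : Fin g → C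
  b : Module.Basis (Fin g) C (Ω[C⁄R])
  hb : ∀ i, b i = KaehlerDifferential.D R C (x i)

attribute [instance] Chart.cr Chart.alg Chart.oi

variable {R : Type u} [CommRing R] {G : Over (Spc R)} [GrpObj G] {g : ℕ}

theorem spm_injective {A A' : Type u} [CommRing A] [CommRing A'] {a b : A →+* A'} (h : spm a = spm b) : a = b := by
  have h1 := Spec.map_injective h
  exact congrArg CommRingCat.Hom.hom h1

theorem exists_spm {A A' : Type u} [CommRing A] [CommRing A'] (f : Spc A ⟶ Spc A') : ∃ a : A' →+* A, f = spm a :=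
  ⟨(Spec.preimage f).hom, (Spec.map_preimage f).symm⟩

theorem spm_comp {A A' A'' : Type u} [CommRing A] [CommRing A'] [CommRing A''] (a : A →+* A') (b : A' →+* A'') :
    spm b ≫ spm a = spm (b.comp a) := specMap_comp a b

/-- Points reducing to the unit section factor through the chart. -/
theorem Chart.factor (c : Chart R G g) {B D : Type u} [CommRing B] [CommRing D] (f : Spc B ⟶ Spc R)
    (π : D →+* B) (hs : Function.Surjective π) (hπ : ∀ x, π x = 0 → IsNilpotent x) (u : Spc D ⟶ G.left)
    (hu : spm π ≫ u = f ≫ (η[G] : 𝟙_ (Over (Spc R)) ⟶ G).left) :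
    ∃ θ : c.C →+* D, spm θ ≫ c.j = u := by
  have hsurj : ∀ y : Spc D, ∃ z : Spc B, (spm π) z = y := by
    intro y
    have h2 : y ∈ Set.range (PrimeSpectrum.comap π) := by
      rw [range_comap_of_surjective _ _ hs]
      intro x hx
      obtain ⟨n, hn⟩ := hπ x hx
      exact y.isPrime.mem_of_pow_mem n (by rw [hn]; exact zero_mem _)
    exact h2
  have hr : Set.range u ⊆ Set.range c.j := by
    rintro _ ⟨y, rfl⟩
    obtain ⟨z, rfl⟩ := hsurj y
    refine ⟨(spm (c.e : c.C →+* R)) (f z), ?_⟩
    rw [← Scheme.Hom.comp_apply, ← Scheme.Hom.comp_apply, ← Scheme.Hom.comp_apply, hu, ← c.he]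
  obtain ⟨θ, hθ⟩ := exists_spm (IsOpenImmersion.lift c.j u hr)
  exact ⟨θ, by rw [← hθ, IsOpenImmersion.lift_fac]⟩

theorem Chart.factor_unique (c : Chart R G g) {D : Type u} [CommRing D] {θ θ' : c.C →+* D}
    (h : spm θ ≫ c.j = spm θ' ≫ c.j) : θ = θ' :=
  spm_injective ((cancel_mono c.j).1 h)

/-- The value at `x i` of the differential of a point. -/
theorem Chart.hom_unique (c : Chart R G g) {B : Type u} [CommRing B] {θ θ' : c.C →+* DualNumber B}
    (h1 : ∀ a, (θ a).fst = (θ' a).fst) (h2 : ∀ a : R, θ (algebraMap R c.C a) = θ' (algebraMap R c.C a))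
    (h3 : ∀ i, (θ (c.x i)).snd = (θ' (c.x i)).snd) (h4 : ∀ a : R, (θ (algebraMap R c.C a)).snd = 0) : θ = θ' := by
  let φ : c.C →+* B := (TrivSqZeroExt.fstHom B B B).toRingHom.comp θ
  let _ : Algebra c.C B := φ.toAlgebra
  let _ : Algebra R B := (φ.comp (algebraMap R c.C)).toAlgebra
  have : IsScalarTower R c.C B := IsScalarTower.of_algebraMap_eq fun _ => rfl
  let D (t : c.C →+* DualNumber B) (ht : ∀ a, (θ a).fst = (t a).fst)
      (ht' : ∀ a : R, (t (algebraMap R c.C a)).snd = 0) : Derivation R c.C B :=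
    { toFun := fun a => (t a).snd
      map_add' := fun a b => by rw [map_add, TrivSqZeroExt.snd_add]
      map_smul' := fun a b => by
        rw [Algebra.smul_def, map_mul, DualNumber.snd_mul, ht', zero_mul, add_zero, ← ht]
        rfl
      map_one_eq_zero' := by simp
      leibniz' := fun a b => by
        change (t (a * b)).snd = (θ a).fst * (t b).snd + (θ b).fst * (t a).snd
        rw [map_mul, DualNumber.snd_mul, ht, ht]
        ring }
  have key : (D θ (fun _ => rfl) h4).liftKaehlerDifferential =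
      (D θ' h1 (fun a => by rw [← h2]; exact h4 a)).liftKaehlerDifferential := by
    refine c.b.ext fun i => ?_
    rw [c.hb, Derivation.liftKaehlerDifferential_comp_D, Derivation.liftKaehlerDifferential_comp_D]
    exact h3 i
  refine RingHom.ext fun a => TrivSqZeroExt.ext (h1 a) ?_
  have := congrArg (fun l => l (KaehlerDifferential.D R c.C a)) key
  simp only [Derivation.liftKaehlerDifferential_comp_D] at this
  exact this

/-- Existence of a point with given values of the differentials. -/
theorem Chart.exists_hom (c : Chart R G g) {B : Type u} [CommRing B] (φ : c.C →+* B) (t : Fin g → B) :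
    ∃ θ : c.C →+* DualNumber B, (∀ a, (θ a).fst = φ a) ∧ (∀ a : R, (θ (algebraMap R c.C a)).snd = 0) ∧
      ∀ i, (θ (c.x i)).snd = t i := by
  let _ : Algebra c.C B := φ.toAlgebra
  let _ : Algebra R B := (φ.comp (algebraMap R c.C)).toAlgebra
  have : IsScalarTower R c.C B := IsScalarTower.of_algebraMap_eq fun _ => rfl
  let D : Derivation R c.C B := (c.b.constr c.C t).compDer (KaehlerDifferential.D R c.C)
  refine ⟨{ toFun := fun a => (φ a, D a)
            map_one' := ?_
            map_mul' := fun a b => ?_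
            map_zero' := ?_
            map_add' := fun a b => ?_ }, fun a => rfl, fun a => ?_, fun i => ?_⟩
  · apply TrivSqZeroExt.ext
    · exact map_one φ
    · exact D.map_one_eq_zero
  · apply TrivSqZeroExt.ext
    · exact map_mul φ a b
    · rw [DualNumber.snd_mul]
      change D (a * b) = φ a * D b + D a * φ b
      rw [D.leibniz, mul_comm (D a)]
      rfl
  · apply TrivSqZeroExt.ext
    · exact map_zero φ
    · exact map_zero D
  · apply TrivSqZeroExt.ext
    · exact map_add φ a b
    · exact map_add D a b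
  · exact D.map_algebraMap a
  · change c.b.constr c.C t (KaehlerDifferential.D R c.C (c.x i)) = t i
    rw [← c.hb, c.b.constr_basis]

section co

variable (c : Chart R G g) {B : Type u} [CommRing B] (f : Spc B ⟶ Spc R)

/-- The ring homomorphism of `f`. -/
def rh : R →+* B := (Spec.preimage f).hom

theorem spm_rh : spm (rh f) = f := Spec.map_preimage f

theorem rh_comp {B' : Type u} [CommRing B'] (h : B →+* B') : rh (spm h ≫ f) = h.comp (rh f) := by
  apply spm_injective
  rw [spm_rh, ← spm_comp]
  exact congrArg (fun t => spm h ≫ t) (spm_rh f).symm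

theorem one_pt_left {X : Over (Spc R)} : (1 : X ⟶ G).left = X.hom ≫ (η[G] : 𝟙_ (Over (Spc R)) ⟶ G).left := by
  rw [Hom.one_def, Over.comp_left]
  congr 1

theorem Chart.factor_pt {D : Type u} [CommRing D] (q : Spc D ⟶ Spc R) (π : D →+* B) (hs : Function.Surjective π)
    (hπ : ∀ x, π x = 0 → IsNilpotent x) (hq : spm π ≫ q = f) (u : Over.mk q ⟶ G)
    (hu : (Over.homMk (spm π) hq : Over.mk f ⟶ Over.mk q) ≫ u = 1) :
    ∃ θ : c.C →+* D, spm θ ≫ c.j = u.left ∧ (∀ a, π (θ a) = rh f (c.e a)) ∧
      ∀ a : R, θ (algebraMap R c.C a) = rh q a := by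
  have hu' : spm π ≫ u.left = f ≫ (η[G] : 𝟙_ (Over (Spc R)) ⟶ G).left := by
    have h1 := congrArg (fun t => t.left) hu
    exact h1.trans one_pt_left
  obtain ⟨θ, hθ⟩ := c.factor f π hs hπ u.left hu'
  refine ⟨θ, hθ, fun a => ?_, fun a => ?_⟩
  · have h1 : spm (π.comp θ) ≫ c.j = spm ((rh f).comp (c.e : c.C →+* R)) ≫ c.j := by
      rw [← spm_comp, ← spm_comp, Category.assoc, Category.assoc]
      rw [hθ, hu', c.he, spm_rh]
    exact RingHom.congr_fun (c.factor_unique h1) a
  · have h1 : spm (θ.comp (algebraMap R c.C)) = spm (rh q) := by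
      rw [← spm_comp]
      rw [← c.hj, ← Category.assoc, hθ, spm_rh]
      exact Over.w u
    exact RingHom.congr_fun (spm_injective h1) a

theorem fstHom_surjective : Function.Surjective (TrivSqZeroExt.fstHom B B B).toRingHom := fun b =>
  ⟨TrivSqZeroExt.inl b, rfl⟩

theorem fstHom_nil (x : DualNumber B) (hx : (TrivSqZeroExt.fstHom B B B).toRingHom x = 0) : IsNilpotent x := by
  refine ⟨2, ?_⟩
  have hx' : x.fst = 0 := hx
  rw [pow_two]
  apply TrivSqZeroExt.ext
  · rw [TrivSqZeroExt.fst_mul, hx', zero_mul]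
    rfl
  · rw [DualNumber.snd_mul, hx', zero_mul, mul_zero, add_zero]
    rfl

theorem exists_th (v : LL f G) : ∃ θ : c.C →+* DualNumber B, spm θ ≫ c.j = (un f G v).1.left ∧
    (∀ a, (θ a).fst = rh f (c.e a)) ∧ ∀ a : R, θ (algebraMap R c.C a) = algebraMap B (DualNumber B) (rh f a) := by
  obtain ⟨θ, h1, h2, h3⟩ := c.factor_pt f (Spec.map (CommRingCat.ofHom (algebraMap B (DualNumber B))) ≫ f)
    (TrivSqZeroExt.fstHom B B B).toRingHom fstHom_surjective fstHom_nil (by
      rw [← Category.assoc]
      change (Spec.map _ ≫ Spec.map _) ≫ f = f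
      rw [specMap_comp, fstHom_comp_algebraMap, CommRingCat.ofHom_id]
      erw [Spec.map_id]; exact Category.id_comp f) (un f G v).1 (un f G v).2
  refine ⟨θ, h1, h2, fun a => ?_⟩
  rw [h3]
  exact RingHom.congr_fun (rh_comp f (algebraMap B (DualNumber B))) a

/-- The ring homomorphism attached to a tangent vector. -/
def Chart.th (v : LL f G) : c.C →+* DualNumber B := (exists_th c f v).choose

theorem Chart.th_spec (v : LL f G) : spm (c.th f v) ≫ c.j = (un f G v).1.left := (exists_th c f v).choose_spec.1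

theorem Chart.th_fst (v : LL f G) (a : c.C) : (c.th f v a).fst = rh f (c.e a) := (exists_th c f v).choose_spec.2.1 a

theorem Chart.th_alg (v : LL f G) (a : R) :
    c.th f v (algebraMap R c.C a) = algebraMap B (DualNumber B) (rh f a) := (exists_th c f v).choose_spec.2.2 a

theorem Chart.th_eq (v : LL f G) {θ : c.C →+* DualNumber B} (h : spm θ ≫ c.j = (un f G v).1.left) :
    c.th f v = θ := c.factor_unique ((c.th_spec f v).trans h.symm)

theorem Chart.th_smul (b : B) (v : LL f G) : c.th f (b • v) = (scaleHom b).comp (c.th f v) := by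
  apply c.th_eq
  rw [← spm_comp, Category.assoc]
  change spm (scaleHom b) ≫ spm (c.th f v) ≫ c.j = spm (scaleHom b) ≫ (un f G v).1.left
  rw [c.th_spec]

theorem Chart.th_pull {B' : Type u} [CommRing B'] (h : B →+* B') (v : LL f G) :
    c.th (spm h ≫ f) (liePull f h G v) = (LieS.bcHom h).comp (c.th f v) := by
  apply c.th_eq
  rw [← spm_comp, Category.assoc]
  change spm (LieS.bcHom h) ≫ spm (c.th f v) ≫ c.j = spm (LieS.bcHom h) ≫ (un f G v).1.left
  rw [c.th_spec]

/-- the augmentation of `D11`. -/
def augD11 (B : Type u) [CommRing B] : D11 B →+* B := (TrivSqZeroExt.fstHom B B B).toRingHom.comp (eqL.fst _ _)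

theorem augD11_surjective : Function.Surjective (augD11 B) := fun b => ⟨toD11 B b, rfl⟩

theorem augD11_nil (x : D11 B) (hx : augD11 B x = 0) : IsNilpotent x := by
  refine ⟨2, ?_⟩
  have hx1 : x.1.1.fst = 0 := hx
  have hx2 : x.1.2.fst = 0 := by
    have := x.2
    change x.1.1.fst = x.1.2.fst at this
    rw [← this, hx1]
  rw [pow_two]
  apply Subtype.ext
  apply Prod.ext
  · apply TrivSqZeroExt.ext
    · change (x.1.1 * x.1.1).fst = 0
      rw [TrivSqZeroExt.fst_mul, hx1, zero_mul]
    · change (x.1.1 * x.1.1).snd = 0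
      rw [DualNumber.snd_mul, hx1, zero_mul, mul_zero, add_zero]
  · apply TrivSqZeroExt.ext
    · change (x.1.2 * x.1.2).fst = 0
      rw [TrivSqZeroExt.fst_mul, hx2, zero_mul]
    · change (x.1.2 * x.1.2).snd = 0
      rw [DualNumber.snd_mul, hx2, zero_mul, mul_zero, add_zero]

/-- Addition of tangent vectors is addition of derivations. -/
theorem Chart.th_add (v w : LL f G) (a : c.C) : (c.th f (v + w) a).snd = (c.th f v a).snd + (c.th f w a).snd := by
  let x := (un f G v).1
  let y := (un f G w).1
  have hx : zeroSec B f ≫ x = 1 := (un f G v).2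
  have hy : zeroSec B f ≫ y = 1 := (un f G w).2
  let u : Pt f (toD11 B) ⟶ G := (ev f (toD11 B) (e₁ B) e₁_sq ≫ x) * (ev f (toD11 B) (e₂ B) e₂_sq ≫ y)
  have hu1 : rm f (eqL.fst _ _) fst_comp_toD11 ≫ u =
      ev f (algebraMap B (DualNumber B)) DualNumber.eps (eps_sq B) ≫ x := by
    rw [MonObj.comp_mul, rm_ev_assoc f _ _ (e₂ B) _ 0 (by simp) rfl,
        ev_zero_comp f y hy _ _ _ rfl, _root_.mul_one, rm_ev_assoc f _ _ (e₁ B) _ DualNumber.eps (eps_sq B) rfl]
  have hu2 : rm f (eqL.snd _ _) snd_comp_toD11 ≫ u =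
      ev f (algebraMap B (DualNumber B)) DualNumber.eps (eps_sq B) ≫ y := by
    rw [MonObj.comp_mul, rm_ev_assoc f _ _ (e₁ B) _ 0 (by simp) rfl,
        ev_zero_comp f x hx _ _ _ rfl, _root_.one_mul, rm_ev_assoc f _ _ (e₂ B) _ DualNumber.eps (eps_sq B) rfl]
  have hst : (DualNumber.eps : DualNumber B) * DualNumber.eps = 0 := eps_sq B
  have hu3 : rm f (d11Hom (algebraMap B (DualNumber B)) _ _ (eps_sq B) (eps_sq B) hst)
      (d11Hom_comp _ _ _ _ _ _) ≫ u =
      (ev f (algebraMap B (DualNumber B)) DualNumber.eps (eps_sq B) ≫ x) *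
        (ev f (algebraMap B (DualNumber B)) DualNumber.eps (eps_sq B) ≫ y) := by
    rw [MonObj.comp_mul,
      rm_ev_assoc f _ _ (e₁ B) _ _ (eps_sq B) (d11Hom_e₁ _ _ _ _ _ _),
      rm_ev_assoc f _ _ (e₂ B) _ _ (eps_sq B) (d11Hom_e₂ _ _ _ _ _ _)]
  have hπ : (augD11 B).comp (toD11 B) = RingHom.id B := RingHom.ext fun b => rfl
  obtain ⟨θ, hθ, h2, h3⟩ := c.factor_pt f (spm (toD11 B) ≫ f) (augD11 B) augD11_surjective augD11_nil (by
      rw [← Category.assoc, spm_comp, hπ]
      change Spec.map (𝟙 _) ≫ f = f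
      rw [Spec.map_id, Category.id_comp]) u (by
      have h4 : (Over.homMk (spm (TrivSqZeroExt.fstHom B B B).toRingHom) (by
        change Spec.map _ ≫ Spec.map _ ≫ f = f
        rw [← Category.assoc, specMap_comp, fstHom_comp_algebraMap, CommRingCat.ofHom_id]
        erw [Spec.map_id]; exact Category.id_comp f) :
          Over.mk f ⟶ Pt f (algebraMap B (DualNumber B))) ≫ rm f (eqL.fst _ _) fst_comp_toD11 =
          (Over.homMk (spm (augD11 B)) (by
            change spm (augD11 B) ≫ spm (toD11 B) ≫ f = f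
            rw [← Category.assoc, spm_comp, hπ]
            change Spec.map (𝟙 _) ≫ f = f
            rw [Spec.map_id, Category.id_comp]) : Over.mk f ⟶ Pt f (toD11 B)) := by
        ext1
        exact spm_comp _ _
      rw [← h4, Category.assoc, hu1, ← Category.assoc]
      have h5 : (Over.homMk (spm (TrivSqZeroExt.fstHom B B B).toRingHom) (by
        change Spec.map _ ≫ Spec.map _ ≫ f = f
        rw [← Category.assoc, specMap_comp, fstHom_comp_algebraMap, CommRingCat.ofHom_id]
        erw [Spec.map_id]; exact Category.id_comp f) :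
          Over.mk f ⟶ Pt f (algebraMap B (DualNumber B))) ≫
          ev f (algebraMap B (DualNumber B)) DualNumber.eps (eps_sq B) = zeroSec B f := by
        ext1
        rw [Over.comp_left, ev_eps_left]
        exact Category.comp_id _
      rw [h5, hx])
  have k1 : c.th f v = (eqL.fst _ _).comp θ := by
    apply c.th_eq
    rw [← spm_comp, Category.assoc, hθ]
    have := congrArg (fun t => t.left) hu1
    rw [Over.comp_left, Over.comp_left, ev_eps_left] at this
    exact this.trans (Category.id_comp _)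
  have k2 : c.th f w = (eqL.snd _ _).comp θ := by
    apply c.th_eq
    rw [← spm_comp, Category.assoc, hθ]
    have := congrArg (fun t => t.left) hu2
    rw [Over.comp_left, Over.comp_left, ev_eps_left] at this
    exact this.trans (Category.id_comp _)
  have k3 : c.th f (v + w) = (d11Hom (algebraMap B (DualNumber B)) _ _ (eps_sq B) (eps_sq B) hst).comp θ := by
    apply c.th_eq
    rw [← spm_comp, Category.assoc, hθ]
    have := congrArg (fun t => t.left) hu3
    rw [← MonObj.comp_mul] at this
    rw [Over.comp_left, Over.comp_left, ev_eps_left] at this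
    exact this.trans (Category.id_comp _)
  rw [k3, k1, k2]
  simp only [RingHom.comp_apply]
  generalize θ a = d
  change (algebraMap B (DualNumber B) d.1.1.fst + algebraMap B (DualNumber B) d.1.1.snd * DualNumber.eps +
    algebraMap B (DualNumber B) d.1.2.snd * DualNumber.eps).snd = d.1.1.snd + d.1.2.snd
  simp [TrivSqZeroExt.algebraMap_eq_inl']

/-- The coordinates of a tangent vector. -/
def Chart.co : LL f G →ₗ[B] (Fin g → B) where
  toFun v i := (c.th f v (c.x i)).snd
  map_add' v w := funext fun i => c.th_add f v w (c.x i)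
  map_smul' b v := funext fun i => by
    rw [c.th_smul, RingHom.comp_apply, RingHom.id_apply]
    simp [scaleHom, dualHom_apply, TrivSqZeroExt.algebraMap_eq_inl', mul_comm]

theorem Chart.co_apply (v : LL f G) (i : Fin g) : c.co f v i = (c.th f v (c.x i)).snd := rfl

theorem Chart.co_injective : Function.Injective (c.co f) := by
  intro v w h
  have h1 : c.th f v = c.th f w := by
    refine c.hom_unique (fun a => ?_) (fun a => ?_) (fun i => congrFun h i) (fun a => ?_)
    · rw [c.th_fst, c.th_fst]
    · rw [c.th_alg, c.th_alg]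
    · rw [c.th_alg]
      rfl
  apply LL_ext
  ext1
  rw [← c.th_spec, ← c.th_spec, h1]

theorem Chart.co_surjective : Function.Surjective (c.co f) := by
  intro t
  obtain ⟨θ, h1, h2, h3⟩ := c.exists_hom ((rh f).comp (c.e : c.C →+* R)) t
  have halg : θ.comp (algebraMap R c.C) = (algebraMap B (DualNumber B)).comp (rh f) := by
    refine RingHom.ext fun a => TrivSqZeroExt.ext ?_ ?_
    · change (θ (algebraMap R c.C a)).fst = rh f a
      rw [h1, RingHom.comp_apply]
      congr 1
      exact c.e.commutes a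
    · exact h2 a
  let v : dpt B f ⟶ G := Over.homMk (spm θ ≫ c.j) (by
    rw [Category.assoc, c.hj]
    refine (spm_comp _ _).trans ?_
    rw [halg, ← spm_comp, spm_rh]
    rfl)
  have hv : v ∈ Lie G B f := by
    rw [mem_Lie_iff]
    ext1
    rw [one_pt_left]
    change spm (TrivSqZeroExt.fstHom B B B).toRingHom ≫ spm θ ≫ c.j = f ≫ _
    have h4 : (TrivSqZeroExt.fstHom B B B).toRingHom.comp θ = (rh f).comp (c.e : c.C →+* R) :=
      RingHom.ext h1
    rw [← c.he, ← Category.assoc, spm_comp, h4, ← spm_comp, Category.assoc, spm_rh]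
  refine ⟨K988.LieModel.mk f G ⟨v, hv⟩, funext fun i => ?_⟩
  rw [c.co_apply, c.th_eq (θ := θ) f (K988.LieModel.mk f G ⟨v, hv⟩) rfl, h3]

/-- The coordinates of a tangent vector. -/
def Chart.coE : LL f G ≃ₗ[B] (Fin g → B) :=
  LinearEquiv.ofBijective (c.co f) ⟨c.co_injective f, c.co_surjective f⟩

theorem Chart.coE_apply (v : LL f G) : c.coE f v = c.co f v := rfl

theorem Chart.co_pull {B' : Type u} [CommRing B'] (h : B →+* B') (v : LL f G) (i : Fin g) :
    c.co (spm h ≫ f) (liePull f h G v) i = h (c.co f v i) := by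
  rw [c.co_apply, c.co_apply, c.th_pull, RingHom.comp_apply]
  simp [LieS.bcHom, dualHom_apply, TrivSqZeroExt.algebraMap_eq_inl']

end co

section exists_chart

variable (R G g)

/-- A basis of differentials of a standard smooth algebra of relative dimension `g`. -/
theorem exists_basis_D (C : Type u) [CommRing C] [Algebra R C] [h : Algebra.IsStandardSmoothOfRelativeDimension g R C] :
    ∃ (x : Fin g → C) (b : Module.Basis (Fin g) C (Ω[C⁄R])), ∀ i, b i = KaehlerDifferential.D R C (x i) := by
  obtain ⟨I₀, σ, _, _, P, hP⟩ := h.out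
  have hcard : Nat.card ((Set.range P.map)ᶜ : Set I₀) = g := by
    have h1 : Nat.card (Set.range P.map) = Nat.card σ := Nat.card_range_of_injective P.map_inj
    have h2 := Set.ncard_add_ncard_compl (Set.range P.map)
    rw [← Nat.card_coe_set_eq, ← Nat.card_coe_set_eq, h1] at h2
    change Nat.card I₀ - Nat.card σ = g at hP
    omega
  let e := (Finite.equivFinOfCardEq hcard).symm
  refine ⟨fun i => P.val (e i), P.basisKaehler.reindex e.symm, fun i => ?_⟩
  rw [Module.Basis.reindex_apply, Algebra.SubmersivePresentation.basisKaehler_apply]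
  rfl

theorem nonempty_chart [IsLocalRing R] [hsm : SmoothOfRelativeDimension g G.hom] : Nonempty (Chart R G g) := by
  let s₀ : Spc R := IsLocalRing.closedPoint R
  let η₀ : Spc R ⟶ G.left := (η[G] : 𝟙_ (Over (Spc R)) ⟶ G).left
  have hη : η₀ ≫ G.hom = 𝟙 _ := Over.w (η[G] : 𝟙_ (Over (Spc R)) ⟶ G)
  obtain ⟨U, hU, V, hV, hx, e, hf⟩ := hsm.exists_isStandardSmoothOfRelativeDimension (η₀ s₀)
  have hUt : U = ⊤ := by
    apply (IsLocalRing.closed_point_mem_iff (R := R)).1
    have h1 : G.hom (η₀ s₀) ∈ U := e hx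
    rw [← Scheme.Hom.comp_apply, hη] at h1
    exact h1
  subst hUt
  have hVt : η₀ ⁻¹ᵁ V = ⊤ := (IsLocalRing.closed_point_mem_iff (R := R)).1 hx
  let j : Spc Γ(G.left, V) ⟶ G.left := hV.fromSpec
  let ψ : R →+* Γ(G.left, V) := (G.hom.appLE ⊤ V e).hom.comp (Scheme.ΓSpecIso (CommRingCat.of R)).inv.hom
  have hψ : RingHom.IsStandardSmoothOfRelativeDimension g ψ :=
    (RingHom.isStandardSmoothOfRelativeDimension_respectsIso (n := g)).2 (G.hom.appLE ⊤ V e).hom
      (Scheme.ΓSpecIso (CommRingCat.of R)).symm.commRingCatIsoToRingEquiv hf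
  let _ : Algebra R Γ(G.left, V) := ψ.toAlgebra
  have : Algebra.IsStandardSmoothOfRelativeDimension g R Γ(G.left, V) := hψ
  have hj : j ≫ G.hom = spm (algebraMap R Γ(G.left, V)) := by
    have h1 := IsAffineOpen.SpecMap_appLE_fromSpec G.hom hU hV e
    rw [← h1]
    have h2 : hU.fromSpec = Spec.map (Scheme.ΓSpecIso (CommRingCat.of R)).inv := by
      rw [← Scheme.isoSpec_Spec_inv, ← IsAffineOpen.fromSpec_top]
    rw [h2, ← Spec.map_comp]
    rfl
  have hr : Set.range η₀ ⊆ Set.range j := by
    rw [hV.range_fromSpec]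
    rintro _ ⟨y, rfl⟩
    have : y ∈ η₀ ⁻¹ᵁ V := by rw [hVt]; trivial
    exact this
  have : IsOpenImmersion j := hV.isOpenImmersion_fromSpec
  obtain ⟨ε, hε⟩ := exists_spm (IsOpenImmersion.lift j η₀ hr)
  have hε' : spm ε ≫ j = η₀ := by rw [← hε, IsOpenImmersion.lift_fac]
  obtain ⟨x, b, hb⟩ := exists_basis_D R g Γ(G.left, V)
  exact ⟨
    { C := Γ(G.left, V)
      j := j
      hj := hj
      e := { ε with
        commutes' := fun a => by
          have h1 : ε.comp (algebraMap R Γ(G.left, V)) = RingHom.id R := by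
            apply spm_injective
            rw [← spm_comp, ← hj, ← Category.assoc, hε', hη]
            exact (Spec.map_id _).symm
          exact RingHom.congr_fun h1 a }
      he := hε'
      x := x
      b := b
      hb := hb }⟩

end exists_chart

end K511.HT
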