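import Groth.Agent.AbVar.K511.HT.Iface
import Groth.Agent.LieS.K988.Model
import Groth.Agent.Sga67.TorsionLift

/-!
# Functoriality of the Lie algebra functor `LieS.Lie`

`lieMap f φ : LL f G →ₗ[B] LL f H` for a homomorphism `φ`, the ring homomorphism `lieEnd`, the pull-back `liePull`
along a ring homomorphism, and the comparison `lieBc` with the base change of the group scheme.
-/

set_option autoImplicit false
set_option linter.unusedSectionVars false
universe u
open CategoryTheory CategoryTheory.Limits MonoidalCategory CartesianMonoidalCategory MonObj GrpObj AlgebraicGeometry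
open LieS K988.LieModel K988.LieCalc K988.LieScale

noncomputable section

namespace K511.HT

theorem LL_ext {S : Scheme.{u}} {B : Type u} [CommRing B] (f : Spc B ⟶ S) {G : Over S} [GrpObj G]
    {v w : LL f G} (h : (un f G v).1 = (un f G w).1) : v = w := Subtype.ext (p := (· ∈ Lie G B f)) h

section map

variable {S : Scheme.{u}} {B : Type u} [CommRing B] (f : Spc B ⟶ S)
variable {G H K : Over S} [GrpObj G] [GrpObj H] [GrpObj K] [IsCommMonObj G] [IsCommMonObj H] [IsCommMonObj K]

/-- The map on Lie algebras induced by a homomorphism. -/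
def lieMap (φ : EndAV.Hom G H) : LL f G →ₗ[B] LL f H where
  toFun v := mk f H (LieS.map B f φ.toHom (un f G v))
  map_add' v w := congrArg (mk f H) (map_mul _ (un f G v) (un f G w))
  map_smul' b v := LL_ext f (Category.assoc (scale B f b) (un f G v).1 φ.toHom)

theorem lieMap_val (φ : EndAV.Hom G H) (v : LL f G) :
    (un f H (lieMap f φ v)).1 = (un f G v).1 ≫ φ.toHom := rfl

theorem lieMap_id : lieMap f (𝟙 (CommGrp.mk G)) = LinearMap.id :=
  LinearMap.ext fun v => LL_ext f (by exact Category.comp_id (un f G v).1)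

theorem lieMap_comp (φ : EndAV.Hom G H) (ψ : EndAV.Hom H K) :
    lieMap f (φ ≫ ψ : EndAV.Hom G K) = (lieMap f ψ).comp (lieMap f φ) :=
  LinearMap.ext fun v => LL_ext f (by exact (Category.assoc (un f G v).1 φ.toHom ψ.toHom).symm)

theorem lieMap_add (φ ψ : EndAV.Hom G H) : lieMap f (φ + ψ) = lieMap f φ + lieMap f ψ :=
  LinearMap.ext fun v => LL_ext f (by exact MonObj.comp_mul (un f G v).1 φ.toHom ψ.toHom)

theorem lieMap_zero : lieMap f (0 : EndAV.Hom G H) = 0 :=
  LinearMap.ext fun v => LL_ext f (by exact MonObj.comp_one (un f G v).1)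

/-- `lieMap` as an additive map. -/
def lieMapAdd (G H : Over S) [GrpObj G] [GrpObj H] [IsCommMonObj G] [IsCommMonObj H] :
    EndAV.Hom G H →+ (LL f G →ₗ[B] LL f H) where
  toFun := lieMap f
  map_zero' := lieMap_zero f
  map_add' := lieMap_add f

/-- The action of the endomorphism ring on the Lie algebra. -/
def lieEnd (G : Over S) [GrpObj G] [IsCommMonObj G] : EndAV.End G →+* Module.End B (LL f G) where
  toFun φ := lieMap f φ
  map_one' := lieMap_id f
  map_mul' φ ψ := lieMap_comp f ψ φ
  map_zero' := lieMap_zero f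
  map_add' := lieMap_add f

theorem lieEnd_apply (φ : EndAV.End G) (v : LL f G) : lieEnd f G φ v = lieMap f φ v := rfl

theorem lieMap_nsmul (n : ℕ) (φ : EndAV.Hom G H) : lieMap f (n • φ) = n • lieMap f φ :=
  map_nsmul (lieMapAdd f G H) n φ

theorem lieMap_zsmul (n : ℤ) (φ : EndAV.Hom G H) : lieMap f (n • φ) = n • lieMap f φ :=
  map_zsmul (lieMapAdd f G H) n φ

end map

section pull

variable {S : Scheme.{u}} {B B' : Type u} [CommRing B] [CommRing B'] (f : Spc B ⟶ S) (h : B →+* B')
variable {G H : Over S} [GrpObj G] [GrpObj H]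

/-- Restriction along `Spec B' ⟶ Spec B`. -/
def liePull (G : Over S) [GrpObj G] : LL f G →+ LL (spm h ≫ f) G where
  toFun v := mk _ G (LieS.pull G f h (un f G v))
  map_zero' := congrArg (mk _ G) (map_one (LieS.pull G f h))
  map_add' v w := congrArg (mk _ G) (map_mul (LieS.pull G f h) (un f G v) (un f G w))

theorem liePull_val (v : LL f G) : (un _ G (liePull f h G v)).1 = dptMap f h ≫ (un f G v).1 := rfl

theorem liePull_smul (b : B) (v : LL f G) : liePull f h G (b • v) = h b • liePull f h G v := by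
  apply LL_ext
  change dptMap f h ≫ scale B f b ≫ (un f G v).1 = scale B' (spm h ≫ f) (h b) ≫ dptMap f h ≫ (un f G v).1
  rw [← Category.assoc, ← Category.assoc]
  congr 1
  ext1
  change Spec.map _ ≫ Spec.map _ = Spec.map _ ≫ Spec.map _
  rw [specMap_comp, specMap_comp]
  congr 2
  refine RingHom.ext fun x => ?_
  rw [RingHom.comp_apply, RingHom.comp_apply]
  apply TrivSqZeroExt.ext <;>
    simp [scaleHom, LieS.bcHom, dualHom_apply, TrivSqZeroExt.algebraMap_eq_inl']

theorem liePull_lieMap [IsCommMonObj G] [IsCommMonObj H] (φ : EndAV.Hom G H) (v : LL f G) :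
    liePull f h H (lieMap f φ v) = lieMap (spm h ≫ f) φ (liePull f h G v) :=
  LL_ext _ (by exact (Category.assoc (dptMap f h) (un f G v).1 φ.toHom).symm)

end pull

section bc

variable {S S' : Scheme.{u}} (g : S' ⟶ S) {B : Type u} [CommRing B] (f : Spc B ⟶ S')
variable (G : Over S) [GrpObj G]

/-- The adjunction bijection as a group isomorphism. -/
def adjE (T : Over S') : (T ⟶ Red.bc g G) ≃* ((Over.map g).obj T ⟶ G) :=
  { ((Over.mapPullbackAdj g).homEquiv T G).symm with
    map_mul' := fun a b => Groth.Agent.Sga67.TorsionLift.homEquiv_symm_mul _ a b }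

theorem adjE_comp {T T' : Over S'} (t : T' ⟶ T) (a : T ⟶ Red.bc g G) :
    adjE g G T' (t ≫ a) = (Over.map g).map t ≫ adjE g G T a :=
  (Over.mapPullbackAdj g).homEquiv_naturality_left_symm t a

theorem adjE_left {T : Over S'} (a : T ⟶ Red.bc g G) :
    (adjE g G T a).left = a.left ≫ pullback.fst G.hom g := by
  change (((Over.mapPullbackAdj g).homEquiv T G).symm a).left = _
  rw [Over.mapPullbackAdj, Adjunction.mkOfHomEquiv_homEquiv]
  rfl

theorem adjE_comp_right {H : Over S} [GrpObj H] {T : Over S'} (a : T ⟶ Red.bc g G) (φ : G ⟶ H) :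
    adjE g H T (a ≫ (Over.pullback g).map φ) = adjE g G T a ≫ φ :=
  (Over.mapPullbackAdj g).homEquiv_naturality_right_symm a φ

variable (B) in
/-- The dual numbers over `Spec B` over `S` and over `S'`. -/
def dE : dpt B (f ≫ g) ≅ (Over.map g).obj (dpt B f) :=
  Over.isoMk (Iso.refl _) (by
    change 𝟙 _ ≫ (Spec.map _ ≫ f) ≫ g = Spec.map _ ≫ f ≫ g
    rw [Category.id_comp, Category.assoc])

variable (B) in
/-- `Spec B` over `S` and over `S'`. -/
def pE : pt B (f ≫ g) ≅ (Over.map g).obj (pt B f) :=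
  Over.isoMk (Iso.refl _) (Category.id_comp _)

theorem zeroSec_dE : zeroSec B (f ≫ g) ≫ (dE g B f).hom = (pE g B f).hom ≫ (Over.map g).map (zeroSec B f) := by
  ext1
  exact (Category.comp_id _).trans (Category.id_comp _).symm

theorem scale_dE (b : B) : scale B (f ≫ g) b ≫ (dE g B f).hom = (dE g B f).hom ≫ (Over.map g).map (scale B f b) := by
  ext1
  exact (Category.comp_id _).trans (Category.id_comp _).symm

theorem scale_dE_inv (b : B) :
    (Over.map g).map (scale B f b) ≫ (dE g B f).inv = (dE g B f).inv ≫ scale B (f ≫ g) b := by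
  rw [Iso.comp_inv_eq, Category.assoc, scale_dE, Iso.inv_hom_id_assoc]

/-- The Lie algebra of the base change. -/
def lieBc [IsCommMonObj G] : LL f (Red.bc g G) ≃ₗ[B] LL (f ≫ g) G where
  toFun v := mk _ G ⟨(dE g B f).hom ≫ adjE g G _ (un f _ v).1, by
    rw [mem_Lie_iff, ← Category.assoc, zeroSec_dE, Category.assoc, ← adjE_comp,
      (mem_Lie_iff _ B f _).1 (un f _ v).2, map_one, MonObj.comp_one]⟩
  invFun v := mk _ _ ⟨(adjE g G _).symm ((dE g B f).inv ≫ (un _ G v).1), by
    rw [mem_Lie_iff]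
    apply (adjE g G _).injective
    rw [adjE_comp, MulEquiv.apply_symm_apply, map_one]
    have h1 : (Over.map g).map (zeroSec B f) ≫ (dE g B f).inv = (pE g B f).inv ≫ zeroSec B (f ≫ g) := by
      rw [Iso.comp_inv_eq, Category.assoc, zeroSec_dE, Iso.inv_hom_id_assoc]
    rw [← Category.assoc, h1, Category.assoc, (mem_Lie_iff _ B _ _).1 (un _ G v).2, MonObj.comp_one]⟩
  left_inv v := by
    apply LL_ext
    change (adjE g G _).symm ((dE g B f).inv ≫ (dE g B f).hom ≫ adjE g G _ (un f _ v).1) = _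
    rw [Iso.inv_hom_id_assoc, MulEquiv.symm_apply_apply]
  right_inv v := by
    apply LL_ext
    change (dE g B f).hom ≫ adjE g G _ ((adjE g G _).symm ((dE g B f).inv ≫ (un _ G v).1)) = _
    rw [MulEquiv.apply_symm_apply, Iso.hom_inv_id_assoc]
  map_add' v w := by
    apply LL_ext
    change (dE g B f).hom ≫ adjE g G _ ((un f _ v).1 * (un f _ w).1) =
      ((dE g B f).hom ≫ adjE g G _ (un f _ v).1) * ((dE g B f).hom ≫ adjE g G _ (un f _ w).1)
    rw [map_mul, MonObj.comp_mul]
  map_smul' b v := by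
    apply LL_ext
    change (dE g B f).hom ≫ adjE g G _ (scale B f b ≫ (un f _ v).1) =
      scale B (f ≫ g) b ≫ (dE g B f).hom ≫ adjE g G _ (un f _ v).1
    rw [adjE_comp, ← Category.assoc, ← Category.assoc, scale_dE]

theorem lieBc_val [IsCommMonObj G] (v : LL f (Red.bc g G)) :
    (un _ G (lieBc g f G v)).1.left = (un f _ v).1.left ≫ pullback.fst G.hom g := by
  change (dE g B f).hom.left ≫ (adjE g G _ (un f _ v).1).left = _
  rw [adjE_left]
  exact Category.id_comp _

theorem lieBc_lieMap {H : Over S} [GrpObj H] [IsCommMonObj G] [IsCommMonObj H] (φ : EndAV.Hom G H)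
    (v : LL f (Red.bc g G)) : lieBc g f H (lieMap f (bcHom g G H φ) v) = lieMap (f ≫ g) φ (lieBc g f G v) := by
  apply LL_ext
  change (dE g B f).hom ≫ adjE g H _ ((un f _ v).1 ≫ (Over.pullback g).map φ.toHom) =
    ((dE g B f).hom ≫ adjE g G _ (un f _ v).1) ≫ φ.toHom
  rw [adjE_comp_right, Category.assoc]

theorem lieBc_lieEnd [IsCommMonObj G] (φ : EndAV.End G) (v : LL f (Red.bc g G)) :
    lieBc g f G (lieEnd f _ (bcEnd g G φ) v) = lieEnd (f ≫ g) G φ (lieBc g f G v) :=
  lieBc_lieMap g f G (H := G) φ v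

end bc

/-- `Eig` in terms of the module `LL`. -/
theorem eig_iff (K : Type u) [CommRing K] (A : Over (Spc K)) [GrpObj A] [IsCommMonObj A] {O : Type} [CommRing O]
    (ρ : O →+* EndAV.End A) (φ : O →+* K) :
    Eig K A ρ φ ↔ ∃ v : LL (𝟙 (Spc K)) A, v ≠ 0 ∧ ∀ b, lieEnd (𝟙 (Spc K)) A (ρ b) v = φ b • v := Iff.rfl

end K511.HT
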