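import Groth.Agent.AbVar.K511.HT.BC

/-!
# The tower of thickenings of the residue field of a discrete valuation ring and the lifting criterion
-/

set_option autoImplicit false
set_option linter.unusedSectionVars false
universe u
open CategoryTheory CategoryTheory.Limits MonoidalCategory CartesianMonoidalCategory MonObj GrpObj AlgebraicGeometry

noncomputable section

namespace K511.HT

section iso

variable {S S' : Scheme.{u}} {t : S' ⟶ S} {X Y : Over S} {X' Y' : Over S'}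
  [GrpObj X] [GrpObj X'] [GrpObj Y] [GrpObj Y']
  {q : X'.left ⟶ X.left} {r : Y'.left ⟶ Y.left}

theorem IsBC.isIso (hx : IsBC t X X' q) [IsIso t] : IsIso q := hx.cart.isIso_fst_of_isIso

theorem IsBC.inv (hx : IsBC t X X' q) [IsIso t] (hq : IsIso q) : IsBC (CategoryTheory.inv t) X' X (CategoryTheory.inv q) where
  cart := IsPullback.of_horiz_isIso ⟨by rw [IsIso.inv_comp_eq, ← Category.assoc, hx.cart.w, Category.assoc,
    IsIso.hom_inv_id, Category.comp_id]⟩
  unit := by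
    rw [IsIso.comp_inv_eq, Category.assoc, hx.unit, ← Category.assoc, IsIso.inv_hom_id]
    exact (Category.id_comp _).symm

theorem IsBC.tr_bijective [IsCommMonObj X] [IsCommMonObj X'] [IsCommMonObj Y] [IsCommMonObj Y']
    (hx : IsBC t X X' q) (hy : IsBC t Y Y' r) {g g' : ℕ} (hX : AgPol.IsAbSch X g)
    (hY : AgPol.IsAbSch Y g') [IsIso t] : Function.Bijective (hx.tr hy hX hY) := by
  have hq := hx.isIso
  have hr := hy.isIso
  refine ⟨fun f f' h => ?_, fun f' => ?_⟩
  · apply EndAV.Hom.ext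
    ext1
    rw [← cancel_epi q, ← hx.tr_fac hy hX hY, ← hx.tr_fac hy hX hY, h]
  · refine ⟨(hx.inv hq).tr (hy.inv hr) (isAbSch_of_isPullback hx.cart hX) (isAbSch_of_isPullback hy.cart hY) f', ?_⟩
    apply hx.tr_eq hy hX hY
    have := (hx.inv hq).tr_fac (hy.inv hr) (isAbSch_of_isPullback hx.cart hX) (isAbSch_of_isPullback hy.cart hY) f'
    rw [IsIso.comp_inv_eq, Category.assoc, IsIso.eq_inv_comp] at this
    exact this.symm

end iso

/-- The form of `LIFT` for a surjection with nilpotent kernel. -/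
theorem lift' (hL : LIFT.{u}) {R S : Type u} [CommRing R] [IsLocalRing R] [IsNoetherianRing R] [CommRing S]
    [Nontrivial S] (π : R →+* S) (hπ : Function.Surjective π) (r n : ℕ) (hr : π r = 0)
    (hn : (RingHom.ker π) ^ (n + 1) = ⊥) {X Y : Over (Spc R)} {X' Y' : Over (Spc S)}
    [GrpObj X] [GrpObj X'] [GrpObj Y] [GrpObj Y'] [IsCommMonObj X] [IsCommMonObj X'] [IsCommMonObj Y]
    [IsCommMonObj Y'] {q : X'.left ⟶ X.left} {s : Y'.left ⟶ Y.left} (hx : IsBC (spm π) X X' q)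
    (hy : IsBC (spm π) Y Y' s) {g g' : ℕ} (hX : AgPol.IsAbSch X g) (hY : AgPol.IsAbSch Y g') :
    Function.Injective (hx.tr hy hX hY) ∧ ∀ f₀ : EndAV.Hom X' Y', ∃ f, hx.tr hy hX hY f = r ^ n • f₀ := by
  let I : Ideal R := RingHom.ker π
  let θ : R ⧸ I ≃+* S := RingHom.quotientKerEquivOfSurjective hπ
  have hθ : (θ : R ⧸ I →+* S).comp (Ideal.Quotient.mk I) = π := RingHom.ext fun a => rfl
  have h0 : spm (θ : R ⧸ I →+* S) ≫ spm (Ideal.Quotient.mk I) = spm π := by
    rw [← hθ]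
    exact LieS.specMap_comp _ _
  have hiso : IsIso (spm (θ : R ⧸ I →+* S)) := by
    have : IsIso (CommRingCat.ofHom (θ : R ⧸ I →+* S)) := (θ.toCommRingCatIso).isIso_hom
    infer_instance
  obtain ⟨h1, h2⟩ := hL R I r n (RingHom.ker_ne_top π) (RingHom.mem_ker.2 hr) hn X Y g g' hX hY
  have Hx : IsBC (spm (θ : R ⧸ I →+* S) ≫ spm (Ideal.Quotient.mk I)) X X' q := hx.congr h0.symm
  have Hy : IsBC (spm (θ : R ⧸ I →+* S) ≫ spm (Ideal.Quotient.mk I)) Y Y' s := hy.congr h0.symm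
  let bx := isBC_bc (spm (Ideal.Quotient.mk I)) X
  let by' := isBC_bc (spm (Ideal.Quotient.mk I)) Y
  have hbx := bx.isBC_lift Hx
  have hby := by'.isBC_lift Hy
  have hX₁ := isAbSch_bc (spm (Ideal.Quotient.mk I)) hX
  have hY₁ := isAbSch_bc (spm (Ideal.Quotient.mk I)) hY
  have hbij := hbx.tr_bijective hby hX₁ hY₁
  have key : ∀ f, hx.tr hy hX hY f = hbx.tr hby hX₁ hY₁ (bcHom (spm (Ideal.Quotient.mk I)) X Y f) := by
    intro f
    apply hx.tr_eq hy hX hY
    have h3 := by'.lift_fac Hy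
    have h4 := bx.lift_fac Hx
    have h5 := bx.tr_fac by' hX hY f
    rw [tr_bc hX hY] at h5
    have h6 := hbx.tr_fac hby hX₁ hY₁ (bcHom (spm (Ideal.Quotient.mk I)) X Y f)
    calc _ = (hbx.tr hby hX₁ hY₁ (bcHom (spm (Ideal.Quotient.mk I)) X Y f)).toHom.left ≫ by'.lift Hy ≫
          pullback.fst Y.hom (spm (Ideal.Quotient.mk I)) := by rw [h3]
      _ = bx.lift Hx ≫ (bcHom (spm (Ideal.Quotient.mk I)) X Y f).toHom.left ≫
          pullback.fst Y.hom (spm (Ideal.Quotient.mk I)) := by rw [← Category.assoc, h6, Category.assoc]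
      _ = _ := by rw [h5, ← Category.assoc, h4]
  refine ⟨fun f f' h => h1 _ _ (hbij.1 ?_), fun f₀ => ?_⟩
  · rw [← key, ← key, h]
  · obtain ⟨f₁, hf₁⟩ := hbij.2 f₀
    obtain ⟨f, hf⟩ := h2 f₁
    exact ⟨f, by rw [key, hf, map_nsmul, hf₁]⟩

/-- A homomorphism on the special fibre lifts as soon as a multiple prime to `r` lifts. -/
theorem lift_of_smul (hL : LIFT.{u}) {R S : Type u} [CommRing R] [IsLocalRing R] [IsNoetherianRing R] [CommRing S]
    [Nontrivial S] (π : R →+* S) (hπ : Function.Surjective π) (r n : ℕ) (hr : π r = 0)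
    (hn : (RingHom.ker π) ^ (n + 1) = ⊥) {X Y : Over (Spc R)} {X' Y' : Over (Spc S)}
    [GrpObj X] [GrpObj X'] [GrpObj Y] [GrpObj Y'] [IsCommMonObj X] [IsCommMonObj X'] [IsCommMonObj Y]
    [IsCommMonObj Y'] {q : X'.left ⟶ X.left} {s : Y'.left ⟶ Y.left} (hx : IsBC (spm π) X X' q)
    (hy : IsBC (spm π) Y Y' s) {g g' : ℕ} (hX : AgPol.IsAbSch X g) (hY : AgPol.IsAbSch Y g')
    (m : ℕ) (hm : Nat.Coprime m r) (f₀ : EndAV.Hom X' Y') (h : ∃ f, hx.tr hy hX hY f = m • f₀) :
    ∃ f, hx.tr hy hX hY f = f₀ := by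
  obtain ⟨f, hf⟩ := h
  obtain ⟨f', hf'⟩ := (lift' hL π hπ r n hr hn hx hy hX hY).2 f₀
  have hco : IsCoprime (m : ℤ) ((r ^ n : ℕ) : ℤ) := Nat.isCoprime_iff_coprime.2 (hm.pow_right n)
  obtain ⟨a, b, hab⟩ := hco
  refine ⟨a • f + b • f', ?_⟩
  rw [map_add, map_zsmul, map_zsmul, hf, hf', ← natCast_zsmul, ← natCast_zsmul, smul_smul, smul_smul, ← add_smul,
    hab, one_smul]

/-! ### The tower -/

section tower

variable (W : Type u) [CommRing W] [IsDomain W] [IsDiscreteValuationRing W]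

/-- `W / 𝔪 ^ (n + 1)`. -/
abbrev Rn (n : ℕ) : Type u := W ⧸ IsLocalRing.maximalIdeal W ^ (n + 1)

/-- `W / 𝔪 ^ (n + 1) → k`. -/
def pin (n : ℕ) : Rn W n →+* IsLocalRing.ResidueField W :=
  Ideal.Quotient.factor (Ideal.pow_le_self (Nat.succ_ne_zero n))

instance (n : ℕ) : Nontrivial (Rn W n) :=
  Ideal.Quotient.nontrivial_iff.2 (fun h => (IsLocalRing.maximalIdeal.isMaximal W).ne_top
    (top_le_iff.1 (h ▸ Ideal.pow_le_self (Nat.succ_ne_zero n))))

instance (n : ℕ) : IsLocalRing (Rn W n) :=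
  IsLocalRing.of_surjective' (Ideal.Quotient.mk _) Ideal.Quotient.mk_surjective

theorem pin_surjective (n : ℕ) : Function.Surjective (pin W n) :=
  Ideal.Quotient.factor_surjective _

theorem pin_mk (n : ℕ) : (pin W n).comp (Ideal.Quotient.mk _) = IsLocalRing.residue W := rfl

theorem ker_pin (n : ℕ) : RingHom.ker (pin W n) ^ (n + 1) = ⊥ := by
  have h1 : RingHom.ker (pin W n) = (IsLocalRing.maximalIdeal W).map (Ideal.Quotient.mk _) := by
    apply le_antisymm
    · intro x hx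
      obtain ⟨a, rfl⟩ := Ideal.Quotient.mk_surjective x
      have h2 : IsLocalRing.residue W a = 0 := hx
      exact Ideal.mem_map_of_mem _ ((IsLocalRing.residue_eq_zero_iff a).1 h2)
    · rw [Ideal.map_le_iff_le_comap]
      intro a ha
      exact (IsLocalRing.residue_eq_zero_iff a).2 ha
  rw [h1, ← Ideal.map_pow, Ideal.map_quotient_self]

theorem pin_natCast {r : ℕ} (hr : (r : W) ∈ IsLocalRing.maximalIdeal W) (n : ℕ) : pin W n r = 0 := by
  have : pin W n r = IsLocalRing.residue W r := by rw [map_natCast, map_natCast]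
  rw [this, IsLocalRing.residue_eq_zero_iff]
  exact hr

theorem spm_pin (n : ℕ) : spm (pin W n) ≫ CohB1.specQuot (IsLocalRing.maximalIdeal W) n =
    spm (IsLocalRing.residue W) := LieS.specMap_comp _ _

theorem spm_pin_trans (n : ℕ) : spm (pin W n) ≫ CohB1.specQuotTrans (IsLocalRing.maximalIdeal W) n =
    spm (pin W (n + 1)) := by
  refine (LieS.specMap_comp _ _).trans ?_
  congr 2
  refine RingHom.ext fun x => ?_
  obtain ⟨a, rfl⟩ := Ideal.Quotient.mk_surjective x
  rfl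

end tower

end K511.HT
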