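import Groth.Agent.AbVar.K511.HT.Rep
import Groth.Agent.AbVar.K511.HT.Tower
import Groth.Agent.AbVar.K511.HT.Iface4

/-!
# The quotients `X_ξ` of `E ^ g` by the étale lift of the kernel of `V = α + ξ i`
-/

set_option autoImplicit false
set_option linter.unusedSectionVars false
universe u
open CategoryTheory CategoryTheory.Limits MonoidalCategory CartesianMonoidalCategory MonObj GrpObj AlgebraicGeometry
open K732.HIsMat K732.HTrace
open scoped NumberField Polynomial

noncomputable section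

namespace K511.HT

/-! ### Extension of a ring homomorphism to `AdjoinRoot (X ^ 2 + δ)`, with noncommutative target -/

section OD

variable {F : Type} [Field F] {δ : 𝓞 F}

theorem OD_exists (β : OD F δ) : ∃ a₀ a₁ : 𝓞 F, β = AdjoinRoot.of _ a₀ + AdjoinRoot.of _ a₁ * AdjoinRoot.root _ := by
  obtain ⟨q, rfl⟩ := AdjoinRoot.mk_surjective β
  set f : (𝓞 F)[X] := Polynomial.X ^ 2 + Polynomial.C δ with hf
  have hm : f.Monic := Polynomial.monic_X_pow_add_C δ two_ne_zero
  have h1 := Polynomial.modByMonic_add_div q f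
  have h2 : (q %ₘ f).natDegree < 2 := by
    have h3 : f.natDegree = 2 := Polynomial.natDegree_X_pow_add_C
    rw [← h3]
    exact Polynomial.natDegree_modByMonic_lt q hm (by intro h; rw [h] at h3; simp at h3)
  refine ⟨(q %ₘ f).coeff 0, (q %ₘ f).coeff 1, ?_⟩
  have h4 : q %ₘ f = Polynomial.C ((q %ₘ f).coeff 0) + Polynomial.C ((q %ₘ f).coeff 1) * Polynomial.X := by
    conv_lhs => rw [Polynomial.as_sum_range' _ 2 h2]
    rw [Finset.sum_range_succ, Finset.sum_range_succ, Finset.sum_range_zero, zero_add,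
      Polynomial.monomial_zero_left, ← Polynomial.C_mul_X_pow_eq_monomial, pow_one]
  have h5 : AdjoinRoot.mk f q = AdjoinRoot.mk f (q %ₘ f) := by
    rw [AdjoinRoot.mk_eq_mk]
    exact ⟨q /ₘ f, by rw [sub_eq_iff_eq_add, _root_.add_comm]; exact h1.symm⟩
  change AdjoinRoot.mk f q = AdjoinRoot.of f _ + AdjoinRoot.of f _ * AdjoinRoot.root f
  rw [h5]
  conv_lhs => rw [h4]
  rw [map_add, map_mul, AdjoinRoot.mk_C, AdjoinRoot.mk_C, AdjoinRoot.mk_X]

variable {R : Type*} [Ring R]

theorem exists_OD_hom (ν : 𝓞 F →+* R) (α : R) (hc : ∀ a, Commute (ν a) α) (hα : α * α = -ν δ) :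
    ∃ P : OD F δ →+* R, (∀ a, P (AdjoinRoot.of _ a) = ν a) ∧ P (AdjoinRoot.root _) = α := by
  let e : (𝓞 F)[X] →+* R := Polynomial.eval₂RingHom' ν α hc
  have he : ∀ q, e q = Polynomial.eval₂ ν α q := fun q => rfl
  have h0 : e (Polynomial.X ^ 2 + Polynomial.C δ) = 0 := by
    have h1 : e Polynomial.X = α := Polynomial.eval₂_X ν α
    have h2 : e (Polynomial.C δ) = ν δ := Polynomial.eval₂_C ν α
    rw [map_add, map_pow, h1, h2, pow_two, hα, neg_add_cancel]
  let P : OD F δ →+* R := Ideal.Quotient.lift _ e (fun q hq => by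
    obtain ⟨q', rfl⟩ := Ideal.mem_span_singleton'.1 hq
    rw [map_mul, h0, mul_zero])
  refine ⟨P, fun a => ?_, ?_⟩
  · exact (Ideal.Quotient.lift_mk _ _ _).trans (Polynomial.eval₂_C ν α)
  · exact (Ideal.Quotient.lift_mk _ _ _).trans (Polynomial.eval₂_X ν α)

end OD

/-! ### Isomorphisms and base change -/

theorem isBC_of_iso {S S' : Scheme.{u}} {t : S' ⟶ S} {X : Over S} {X' : Over S'} [GrpObj X] [GrpObj X']
    (e : X' ≅ Red.bc t X) [he : IsMonHom e.hom] : IsBC t X X' (e.hom.left ≫ pullback.fst X.hom t) where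
  cart := by
    have h1 : IsIso e.hom.left := inferInstanceAs (IsIso ((Over.forget _).map e.hom))
    have h2 : IsPullback e.hom.left X'.hom (Red.bc t X).hom (𝟙 S') :=
      IsPullback.of_horiz_isIso ⟨by rw [Category.comp_id]; exact Over.w e.hom⟩
    have h3 := h2.paste_horiz (IsPullback.of_hasPullback X.hom t)
    rwa [Category.id_comp] at h3
  unit := by
    rw [← Category.assoc, ← Over.comp_left, IsMonHom.one_hom, unit_bc_fst]

variable {r : ℕ} {W : Type u} [CommRing W] [IsDomain W] [IsDiscreteValuationRing W]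
  (D : EData r W) {F : Type} [Field F] [NumberField F] {g : ℕ} (b : Module.Basis (Fin g) ℤ (𝓞 F))
  {A : Over (Spc W)} [GrpObj A] [IsCommMonObj A] {p : Fin g → (A ⟶ D.E)} (hp : IsPow D.E A p)

section alg

/-- The special fibre of the power. -/
abbrev Ak (A : Over (Spc W)) : Over (Spc (IsLocalRing.ResidueField W)) := Red.bc (spm (IsLocalRing.residue W)) A

/-- The projections on the special fibre. -/
abbrev pk (p : Fin g → (A ⟶ D.E)) : Fin g → (Ak A ⟶ Red.bc (spm (IsLocalRing.residue W)) D.E) :=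
  fun j => (Over.pullback (spm (IsLocalRing.residue W))).map (p j)

include hp in
theorem hpk : IsPow (Red.bc (spm (IsLocalRing.residue W)) D.E) (Ak A) (pk D p) := isPow_bc _ hp

/-- `i` on the special fibre of `E`. -/
abbrev ik : EndAV.End (Red.bc (spm (IsLocalRing.residue W)) D.E) := bcEnd (spm (IsLocalRing.residue W)) D.E D.i

theorem ik_sq : ik D * ik D = -1 := by rw [← map_mul, D.i_sq, map_neg, map_one]

/-- `a i + y F + z i F`. -/
def V (a y z : 𝓞 F) : EndAV.End (Ak A) :=
  rp b (hpk D hp) a (ik D) + rp b (hpk D hp) y D.F + rp b (hpk D hp) z (ik D * D.F)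

/-- The action of `𝓞 F`. -/
abbrev nuk : 𝓞 F →+* EndAV.End (Ak A) := nu b (hpk D hp)

/-- The action of `i`. -/
abbrev Ik : EndAV.End (Ak A) := dg b (hpk D hp) (ik D)

theorem V_mul_V (a y z : 𝓞 F) : V D b hp a y z * V D b hp a y z = -nuk D b hp (a ^ 2 + r * (y ^ 2 + z ^ 2)) := by
  have h1 := sq_eq b (ik D) D.F r (ik_sq D) D.F_sq D.F_i a y z
  have h2 := congrArg (matHom (hpk D hp)) h1
  rw [map_mul, map_add, map_add, map_neg] at h2
  exact h2

theorem V_add (a c y z : 𝓞 F) : V D b hp (a + c) y z = V D b hp c y z + nuk D b hp a * Ik D b hp := by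
  rw [V, rp_add_left, nu_mul_dg, V]
  abel

theorem nuk_comm (a c y z : 𝓞 F) : Commute (nuk D b hp a) (V D b hp c y z) := by
  have h : ∀ (c : 𝓞 F) (u : EndAV.End (Red.bc (spm (IsLocalRing.residue W)) D.E)),
      Commute (nuk D b hp a) (rp b (hpk D hp) c u) := by
    intro c u
    change rp b (hpk D hp) a 1 * rp b (hpk D hp) c u = rp b (hpk D hp) c u * rp b (hpk D hp) a 1
    rw [rp_mul, rp_mul, _root_.one_mul, _root_.mul_one, _root_.mul_comm a c]
  exact ((h _ _).add_right (h _ _)).add_right (h _ _)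

theorem nuk_comm_Ik (a : 𝓞 F) : Commute (nuk D b hp a) (Ik D b hp) := by
  change nuk D b hp a * Ik D b hp = Ik D b hp * nuk D b hp a
  rw [nu_mul_dg, dg_mul_nu]

theorem Ik_sq : Ik D b hp * Ik D b hp = -1 := by rw [← map_mul, ik_sq, map_neg, map_one]

/-- `α V - V (ξ i) = ξ² - δ`. -/
theorem alpha_V (x y z ξ : 𝓞 F) :
    V D b hp x y z * V D b hp (ξ + x) y z - V D b hp (ξ + x) y z * (nuk D b hp ξ * Ik D b hp) =
      nuk D b hp (ξ ^ 2 - (x ^ 2 + r * (y ^ 2 + z ^ 2))) := by
  have h1 := V_mul_V D b hp x y z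
  have h2 := (nuk_comm_Ik D b hp ξ).eq
  have h3 : (nuk D b hp ξ * Ik D b hp) * (nuk D b hp ξ * Ik D b hp) = -nuk D b hp (ξ ^ 2) := by
    rw [_root_.mul_assoc, ← _root_.mul_assoc (Ik D b hp), ← h2, _root_.mul_assoc (nuk D b hp ξ) (Ik D b hp), Ik_sq,
      pow_two, map_mul]
    noncomm_ring
  rw [V_add, _root_.mul_add, _root_.add_mul, h1, h3, map_sub]
  abel

end alg

end K511.HT
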