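import Groth.Agent.AbVar.K511.HT.Iface
import Groth.Agent.AbDual.K732.HIsMat

/-!
# The action of matrices over `End E` on a power of `E`, and `α = x i + y F + z i F`
-/

set_option autoImplicit false
set_option linter.unusedSectionVars false
universe u
open CategoryTheory CategoryTheory.Limits MonoidalCategory CartesianMonoidalCategory MonObj GrpObj AlgebraicGeometry
open K732.HIsMat K732.HTrace
open scoped NumberField

noncomputable section

namespace K511.HT

section mat

variable {S : Scheme.{u}} {E A : Over S} [GrpObj E] [IsCommMonObj E] [GrpObj A] [IsCommMonObj A] {g : ℕ}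
  {p : Fin g → (A ⟶ E)}

theorem isMonHom_of_comp (hp : IsPow E A p) {X : Over S} [GrpObj X] (w : X ⟶ A) (h : ∀ j, IsMonHom (w ≫ p j)) :
    IsMonHom w where
  one_hom := (hp.lift _ fun j => η[A] ≫ p j).unique (fun j => by
    have := hp.hom j
    have := h j
    rw [Category.assoc, IsMonHom.one_hom, IsMonHom.one_hom]) fun j => rfl
  mul_hom := (hp.lift _ fun j => ((w ⊗ₘ w) ≫ μ[A]) ≫ p j).unique (fun j => by
    have := hp.hom j
    have := h j
    rw [Category.assoc, Category.assoc, IsMonHom.mul_hom, IsMonHom.mul_hom,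
        ← tensorHom_comp_tensorHom_assoc]) fun j => rfl

instance isMonHom_prod {X Y : Over S} [GrpObj X] [GrpObj Y] [IsCommMonObj X] [IsCommMonObj Y] {I : Type*}
    (s : Finset I) (f : I → (X ⟶ Y)) [h : ∀ i, IsMonHom (f i)] : IsMonHom (∏ i ∈ s, f i) := by
  classical
  have : (∏ i ∈ s, f i) = (∑ i ∈ s, EndAV.Hom.of (f i) : EndAV.Hom X Y).toHom := by
    induction s using Finset.induction_on with
    | empty => rw [Finset.prod_empty, Finset.sum_empty, EndAV.Hom.toHom_zero]
    | insert i s hi ih => rw [Finset.prod_insert hi, Finset.sum_insert hi, EndAV.Hom.toHom_add, ih,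
        EndAV.Hom.toHom_of]
  rw [this]
  infer_instance

/-- The endomorphism of the power given by a matrix. -/
theorem exists_matEnd (hp : IsPow E A p) (B : Matrix (Fin g) (Fin g) (EndAV.End E)) :
    ∃ f : EndAV.End A, IsMat p B f := by
  obtain ⟨w, hw, -⟩ := hp.lift A fun j => ∏ l, p l ≫ (B j l).toHom
  have hp' := hp.hom
  have : IsMonHom w := isMonHom_of_comp hp w fun j => by
    rw [hw]
    infer_instance
  exact ⟨EndAV.End.of w, hw⟩

/-- The endomorphism of the power given by a matrix. -/
def matEnd (hp : IsPow E A p) (B : Matrix (Fin g) (Fin g) (EndAV.End E)) : EndAV.End A := (exists_matEnd hp B).choose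

theorem matEnd_spec (hp : IsPow E A p) (B : Matrix (Fin g) (Fin g) (EndAV.End E)) : IsMat p B (matEnd hp B) :=
  (exists_matEnd hp B).choose_spec

theorem matEnd_eq (hp : IsPow E A p) {B : Matrix (Fin g) (Fin g) (EndAV.End E)} {f : EndAV.End A}
    (h : IsMat p B f) : matEnd hp B = f := IsMat.unique (isPow_of hp) (matEnd_spec hp B) h

theorem matEnd_mul (hp : IsPow E A p) (B B' : Matrix (Fin g) (Fin g) (EndAV.End E)) :
    matEnd hp (B * B') = matEnd hp B * matEnd hp B' :=
  matEnd_eq hp (IsMat.mul (matEnd_spec hp B) (matEnd_spec hp B'))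

theorem matEnd_add (hp : IsPow E A p) (B B' : Matrix (Fin g) (Fin g) (EndAV.End E)) :
    matEnd hp (B + B') = matEnd hp B + matEnd hp B' :=
  matEnd_eq hp (IsMat.add hp.hom (matEnd_spec hp B) (matEnd_spec hp B'))

theorem matEnd_one (hp : IsPow E A p) : matEnd hp (1 : Matrix (Fin g) (Fin g) (EndAV.End E)) = 1 := by
  apply matEnd_eq hp
  intro j
  rw [Finset.prod_eq_single j]
  · rw [Matrix.one_apply_eq]
    exact (Category.id_comp _).trans (Category.comp_id _).symm
  · intro l _ hl
    rw [Matrix.one_apply_ne hl.symm]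
    exact MonObj.comp_one _
  · intro h
    exact absurd (Finset.mem_univ j) h

/-- The ring homomorphism. -/
def matHom (hp : IsPow E A p) : Matrix (Fin g) (Fin g) (EndAV.End E) →+* EndAV.End A where
  toFun := matEnd hp
  map_one' := matEnd_one hp
  map_mul' := matEnd_mul hp
  map_zero' := by
    have h := matEnd_add hp (0 : Matrix (Fin g) (Fin g) (EndAV.End E)) 0
    rw [add_zero] at h
    exact left_eq_add.1 h
  map_add' := matEnd_add hp

variable {O : Type} [CommRing O] (b : Module.Basis (Fin g) ℤ O)

/-- `a ⊗ u`. -/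
def rp (hp : IsPow E A p) (a : O) (u : EndAV.End E) : EndAV.End A := matHom hp (N b a u)

theorem rp_isRep (hp : IsPow E A p) (a : O) (u : EndAV.End E) : IsRep p b u a (rp b hp a u) := matEnd_spec hp _

theorem rp_eq (hp : IsPow E A p) {a : O} {u : EndAV.End E} {f : EndAV.End A} (h : IsRep p b u a f) :
    rp b hp a u = f := matEnd_eq hp h

theorem rp_mul (hp : IsPow E A p) (a c : O) (u w : EndAV.End E) :
    rp b hp a u * rp b hp c w = rp b hp (a * c) (u * w) := by
  rw [rp, rp, ← map_mul, N_mul]
  rfl

theorem rp_add_left (hp : IsPow E A p) (a c : O) (u : EndAV.End E) :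
    rp b hp (a + c) u = rp b hp a u + rp b hp c u := by
  rw [rp, N_add_left, map_add]
  rfl

theorem rp_add_right (hp : IsPow E A p) (a : O) (u w : EndAV.End E) :
    rp b hp a (u + w) = rp b hp a u + rp b hp a w := by
  rw [rp, rp, rp, ← map_add]
  congr 1
  ext i k
  simp [N, mul_add]

theorem rp_one_one (hp : IsPow E A p) : rp b hp 1 1 = 1 := by
  have h : N b (1 : O) (1 : EndAV.End E) = 1 := by
    ext i k
    simp only [N, map_one, Matrix.map_apply, _root_.mul_one]
    rcases eq_or_ne i k with rfl | h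
    · rw [Matrix.one_apply_eq, Matrix.one_apply_eq, Int.cast_one]
    · rw [Matrix.one_apply_ne h, Matrix.one_apply_ne h, Int.cast_zero]
  rw [rp, h, map_one]

/-- The action of `O` on the power. -/
def nu (hp : IsPow E A p) : O →+* EndAV.End A where
  toFun a := rp b hp a 1
  map_one' := rp_one_one b hp
  map_mul' a c := by rw [rp_mul, _root_.mul_one]
  map_zero' := by
    have h := rp_add_left b hp 0 0 1
    rw [add_zero] at h
    exact left_eq_add.1 h
  map_add' a c := rp_add_left b hp a c 1

/-- The diagonal action of `End E`. -/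
def dg (hp : IsPow E A p) : EndAV.End E →+* EndAV.End A where
  toFun u := rp b hp 1 u
  map_one' := rp_one_one b hp
  map_mul' u w := by rw [rp_mul, _root_.mul_one]
  map_zero' := by
    have h := rp_add_right b hp 1 0 0
    rw [add_zero] at h
    exact left_eq_add.1 h
  map_add' u w := rp_add_right b hp 1 u w

theorem nu_mul_dg (hp : IsPow E A p) (a : O) (u : EndAV.End E) : nu b hp a * dg b hp u = rp b hp a u := by
  change rp b hp a 1 * rp b hp 1 u = _
  rw [rp_mul, _root_.mul_one, _root_.one_mul]

theorem dg_mul_nu (hp : IsPow E A p) (a : O) (u : EndAV.End E) : dg b hp u * nu b hp a = rp b hp a u := by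
  change rp b hp 1 u * rp b hp a 1 = _
  rw [rp_mul, _root_.mul_one, _root_.one_mul]

end mat

section bc

variable {S S' : Scheme.{u}} (t : S' ⟶ S) {E A : Over S} [GrpObj E] [IsCommMonObj E] [GrpObj A] [IsCommMonObj A]
  {g : ℕ} {p : Fin g → (A ⟶ E)}

theorem isPow_bc (hp : IsPow E A p) :
    IsPow (Red.bc t E) (Red.bc t A) (fun j => (Over.pullback t).map (p j)) := by
  have h := K732.HIsMat.isPow_bc t (isPow_of hp)
  refine ⟨h.isMonHom, fun T v => ?_⟩
  obtain ⟨w, hw⟩ := h.exists_lift v
  exact ⟨w, hw, fun w' hw' => h.hom_ext fun j => by rw [hw j]; exact hw' j⟩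

theorem isMat_bc {B : Matrix (Fin g) (Fin g) (EndAV.End E)} {f : EndAV.End A} (h : IsMat p B f) :
    IsMat (fun j => (Over.pullback t).map (p j)) (B.map (bcEnd t E)) (bcEnd t A f) := by
  intro j
  have h1 : mapHom t A (f.toHom ≫ p j) = mapHom t A (∏ l, p l ≫ (B j l).toHom) := by rw [h j]
  rw [map_prod] at h1
  refine ((Over.pullback t).map_comp f.toHom (p j)).symm.trans (h1.trans ?_)
  refine Finset.prod_congr rfl fun l _ => ?_
  exact (Over.pullback t).map_comp _ _

theorem bcEnd_rp {O : Type} [CommRing O] (b : Module.Basis (Fin g) ℤ O) (hp : IsPow E A p) (a : O)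
    (u : EndAV.End E) : bcEnd t A (rp b hp a u) = rp b (isPow_bc t hp) a (bcEnd t E u) := by
  symm
  apply rp_eq
  have h := isMat_bc t (rp_isRep b hp a u)
  have h2 : (((Algebra.leftMulMatrix b a).map fun n : ℤ => (n : EndAV.End E) * u).map (bcEnd t E)) =
      ((Algebra.leftMulMatrix b a).map fun n : ℤ => (n : EndAV.End (Red.bc t E)) * bcEnd t E u) := by
    ext i k
    simp only [Matrix.map_apply, map_mul, map_intCast]
  rw [h2] at h
  exact h

end bc

end K511.HT
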