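import Groth.Agent.AbVar.K511.HT.Lvl

/-!
# The tower `X_{ξ n}` modulo `r ^ (n + 1)`
-/

set_option autoImplicit false
set_option linter.unusedSectionVars false
universe u
open CategoryTheory CategoryTheory.Limits MonoidalCategory CartesianMonoidalCategory MonObj GrpObj AlgebraicGeometry
open scoped NumberField Polynomial

noncomputable section

namespace K511.HT

theorem exists_ringHom_lift {B R R' : Type*} [Ring B] [Ring R] [Ring R'] (T : R →+* R')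
    (hT : Function.Injective T) (P : B →+* R') (h : ∀ b, ∃ f, T f = P b) :
    ∃ ρ : B →+* R, ∀ b, T (ρ b) = P b := by
  choose f hf using h
  exact ⟨{ toFun := f
           map_one' := hT (by rw [hf, map_one, map_one])
           map_mul' := fun a b => hT (by rw [map_mul, hf, hf, hf, map_mul])
           map_zero' := hT (by rw [hf, map_zero, map_zero])
           map_add' := fun a b => hT (by rw [map_add, hf, hf, hf, map_add]) }, hf⟩

section gen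

variable {S S' : Scheme.{u}} {t : S' ⟶ S} {Y₁ Y₂ : Over S} {Z : Over S'}
  [GrpObj Y₁] [GrpObj Y₂] [GrpObj Z] [IsCommMonObj Y₁] [IsCommMonObj Y₂] [IsCommMonObj Z]
  {q₁ : Z.left ⟶ Y₁.left} {q₂ : Z.left ⟶ Y₂.left}

/-- Mutually inverse lifts of the identity. -/
theorem exists_iso_of_lifts (h₁ : IsBC t Y₁ Z q₁) (h₂ : IsBC t Y₂ Z q₂) {g g' : ℕ} (hY₁ : AgPol.IsAbSch Y₁ g)
    (hY₂ : AgPol.IsAbSch Y₂ g') (i₁ : Function.Injective (h₁.tr h₁ hY₁ hY₁))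
    (i₂ : Function.Injective (h₂.tr h₂ hY₂ hY₂)) (a : EndAV.Hom Y₁ Y₂)
    (ha : h₁.tr h₂ hY₁ hY₂ a = (1 : EndAV.End Z)) (c : EndAV.Hom Y₂ Y₁)
    (hc : h₂.tr h₁ hY₂ hY₁ c = (1 : EndAV.End Z)) :
    ∃ (e : Y₂ ≅ Y₁) (_ : IsMonHom e.hom), q₂ ≫ e.hom.left = q₁ := by
  have h1 : (a ≫ c : EndAV.Hom Y₁ Y₁) = 𝟙 (CommGrp.mk Y₁) := by
    apply i₁
    rw [h₁.tr_comp h₂ h₁ hY₁ hY₂ hY₁, ha, hc, h₁.tr_id]
    exact Category.comp_id _
  have h2 : (c ≫ a : EndAV.Hom Y₂ Y₂) = 𝟙 (CommGrp.mk Y₂) := by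
    apply i₂
    rw [h₂.tr_comp h₁ h₂ hY₂ hY₁ hY₂, ha, hc, h₂.tr_id]
    exact Category.comp_id _
  have h1' : a.toHom ≫ c.toHom = 𝟙 Y₁ := congrArg EndAV.Hom.toHom h1
  have h2' : c.toHom ≫ a.toHom = 𝟙 Y₂ := congrArg EndAV.Hom.toHom h2
  refine ⟨⟨c.toHom, a.toHom, h2', h1'⟩, inferInstanceAs (IsMonHom c.toHom), ?_⟩
  have h3 := h₂.tr_fac h₁ hY₂ hY₁ c
  rw [hc] at h3
  exact h3.symm.trans (Category.id_comp q₁)

end gen

section level

variable {W : Type u} [CommRing W] [IsDomain W] [IsDiscreteValuationRing W]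

/-- Reduction modulo `𝔪 ^ (n + 1)`. -/
abbrev At (n : ℕ) (X : Over (Spc W)) : Over (Spc (Rn W n)) := Red.bc (CohB1.specQuot (IsLocalRing.maximalIdeal W) n) X

variable {X Y : Over (Spc W)} {Z Z' : Over (Spc (IsLocalRing.ResidueField W))} [GrpObj X] [GrpObj Y] [GrpObj Z]
  [GrpObj Z'] {q : Z.left ⟶ X.left} {s : Z'.left ⟶ Y.left}

/-- The special fibre inside the reduction. -/
def IsBC.sat (hx : IsBC (spm (IsLocalRing.residue W)) X Z q) (n : ℕ) : Z.left ⟶ (At n X).left :=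
  (isBC_bc (CohB1.specQuot (IsLocalRing.maximalIdeal W) n) X).lift (hx.congr (spm_pin W n).symm)

theorem IsBC.isBC_sat (hx : IsBC (spm (IsLocalRing.residue W)) X Z q) (n : ℕ) :
    IsBC (spm (pin W n)) (At n X) Z (hx.sat n) :=
  (isBC_bc (CohB1.specQuot (IsLocalRing.maximalIdeal W) n) X).isBC_lift (hx.congr (spm_pin W n).symm)

theorem IsBC.sat_fst (hx : IsBC (spm (IsLocalRing.residue W)) X Z q) (n : ℕ) :
    hx.sat n ≫ pullback.fst X.hom (CohB1.specQuot (IsLocalRing.maximalIdeal W) n) = q :=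
  (isBC_bc (CohB1.specQuot (IsLocalRing.maximalIdeal W) n) X).lift_fac (hx.congr (spm_pin W n).symm)

variable [IsCommMonObj X] [IsCommMonObj Y] [IsCommMonObj Z] [IsCommMonObj Z']

theorem IsBC.tr_sat (hx : IsBC (spm (IsLocalRing.residue W)) X Z q) (hy : IsBC (spm (IsLocalRing.residue W)) Y Z' s)
    {g g' : ℕ} (hX : AgPol.IsAbSch X g) (hY : AgPol.IsAbSch Y g') (n : ℕ) (f : EndAV.Hom X Y) :
    (hx.isBC_sat n).tr (hy.isBC_sat n) (isAbSch_bc _ hX) (isAbSch_bc _ hY)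
      (bcHom (CohB1.specQuot (IsLocalRing.maximalIdeal W) n) X Y f) = hx.tr hy hX hY f := by
  rw [← tr_bc hX hY]
  refine ((isBC_bc _ X).tr_tr (isBC_bc _ Y) (hx.isBC_sat n) (hy.isBC_sat n) hX hY (isAbSch_bc _ hX) (isAbSch_bc _ hY)
    (hx.congr (spm_pin W n).symm) (hy.congr (spm_pin W n).symm) (hx.sat_fst n) (hy.sat_fst n) f).trans ?_
  exact (hx.congr (spm_pin W n).symm).tr_eq (hy.congr (spm_pin W n).symm) hX hY (hx.tr_fac hy hX hY f)

end level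

section rigid

variable (hL : LIFT.{u}) {r : ℕ} {W : Type u} [CommRing W] [IsDomain W] [IsDiscreteValuationRing W]
  (hr : (r : W) ∈ IsLocalRing.maximalIdeal W) {n : ℕ}
  {X Y : Over (Spc (Rn W n))} {Z Z' : Over (Spc (IsLocalRing.ResidueField W))} [GrpObj X] [GrpObj Y] [GrpObj Z]
  [GrpObj Z'] [IsCommMonObj X] [IsCommMonObj Y] [IsCommMonObj Z] [IsCommMonObj Z']
  {q : Z.left ⟶ X.left} {s : Z'.left ⟶ Y.left}
  (hx : IsBC (spm (pin W n)) X Z q) (hy : IsBC (spm (pin W n)) Y Z' s) {g g' : ℕ} (hX : AgPol.IsAbSch X g)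
  (hY : AgPol.IsAbSch Y g')

include hL hr in
theorem tr_inj : Function.Injective (hx.tr hy hX hY) :=
  (lift' hL (pin W n) (pin_surjective W n) r n (pin_natCast W hr n) (ker_pin W n) hx hy hX hY).1

include hL hr in
theorem rlift (N : ℕ) (hN : n ≤ N) (f₀ : EndAV.Hom Z Z') : ∃ f, hx.tr hy hX hY f = r ^ N • f₀ := by
  obtain ⟨f, hf⟩ := (lift' hL (pin W n) (pin_surjective W n) r n (pin_natCast W hr n) (ker_pin W n) hx hy hX hY).2
    (r ^ (N - n) • f₀)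
  exact ⟨f, by rw [hf, smul_smul, ← pow_add, Nat.add_sub_cancel' hN]⟩

include hL hr in
theorem slift (hp : r.Prime) (m : ℕ) (hm : ¬ r ∣ m) (f₀ : EndAV.Hom Z Z') (h : ∃ f, hx.tr hy hX hY f = m • f₀) :
    ∃ f, hx.tr hy hX hY f = f₀ :=
  lift_of_smul hL (pin W n) (pin_surjective W n) r n (pin_natCast W hr n) (ker_pin W n) hx hy hX hY m
    ((Nat.Prime.coprime_iff_not_dvd hp).2 hm).symm f₀ h

end rigid

/-! ### One level -/

section lvl

variable {r : ℕ} {W : Type u} [CommRing W] [IsDomain W] [IsDiscreteValuationRing W]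
  (D : EData r W) {F : Type} [Field F] [NumberField F] {g : ℕ} (b : Module.Basis (Fin g) ℤ (𝓞 F))
  {A : Over (Spc W)} [GrpObj A] [IsCommMonObj A] {p : Fin g → (A ⟶ D.E)} (hp : IsPow D.E A p)

/-- The lift `X` of the target of `V (ξ + x)`. -/
structure Lvl (x y z ξ : 𝓞 F) where
  X : Over (Spc W)
  [grp : GrpObj X]
  [comm : IsCommMonObj X]
  ab : AgPol.IsAbSch X g
  m : ℕ
  c' : 𝓞 F
  hm : ¬ r ∣ m
  hc : ((ξ + x) ^ 2 + r * (y ^ 2 + z ^ 2)) * c' = m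
  v : EndAV.Hom A X
  w : EndAV.Hom X A
  vw : v ≫ w = (m : EndAV.End A)
  wv : w ≫ v = (m : EndAV.End X)
  e : Red.bc (spm (IsLocalRing.residue W)) X ≅ Ak A
  [he : IsMonHom e.hom]
  hv : (bcHom (spm (IsLocalRing.residue W)) A X v).toHom ≫ e.hom = (V D b hp (ξ + x) y z).toHom
  hw : (bcHom (spm (IsLocalRing.residue W)) X A w).toHom =
    e.hom ≫ (-(nuk D b hp c' * V D b hp (ξ + x) y z)).toHom

attribute [instance] Lvl.grp Lvl.comm Lvl.he

theorem natCast_ne_zero_of_not_dvd (hr : r.Prime) (hm : (r : W) ∈ IsLocalRing.maximalIdeal W) {m : ℕ} (h : ¬ r ∣ m) :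
    (m : IsLocalRing.ResidueField W) ≠ 0 := by
  intro h0
  have h1 : (m : W) ∈ IsLocalRing.maximalIdeal W := by
    rw [← IsLocalRing.residue_eq_zero_iff, map_natCast]
    exact h0
  obtain ⟨a, c, hac⟩ := Nat.isCoprime_iff_coprime.2 ((Nat.Prime.coprime_iff_not_dvd hr).2 h)
  apply (IsLocalRing.maximalIdeal.isMaximal W).ne_top
  rw [Ideal.eq_top_iff_one]
  have h2 : (1 : W) = a * r + c * m := by
    have := congrArg (fun j : ℤ => (j : W)) hac
    push_cast at this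
    exact this.symm
  rw [h2]
  exact add_mem (Ideal.mul_mem_left _ _ hm) (Ideal.mul_mem_left _ _ h1)

theorem V_w₀ {x y z c' : 𝓞 F} {m : ℕ} (hc : (x ^ 2 + r * (y ^ 2 + z ^ 2)) * c' = m) :
    V D b hp x y z * -(nuk D b hp c' * V D b hp x y z) = m ∧
      -(nuk D b hp c' * V D b hp x y z) * V D b hp x y z = m := by
  have h1 := V_mul_V D b hp x y z
  have h2 := (nuk_comm D b hp c' x y z).eq
  have h3 : nuk D b hp c' * nuk D b hp (x ^ 2 + r * (y ^ 2 + z ^ 2)) = m := by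
    rw [← map_mul, _root_.mul_comm c', hc, map_natCast]
  constructor
  · rw [h2, _root_.mul_neg, ← _root_.mul_assoc, h1, _root_.neg_mul, _root_.neg_neg, ← h3, ← map_mul, ← map_mul,
      _root_.mul_comm]
  · rw [_root_.neg_mul, _root_.mul_assoc, h1, _root_.mul_neg, _root_.neg_neg, h3]

theorem exists_lvl (hET : ET.{u}) [IsAdicComplete (IsLocalRing.maximalIdeal W) W] (hr : r.Prime)
    (hrm : (r : W) ∈ IsLocalRing.maximalIdeal W) (hA : AgPol.IsAbSch A g) (x y z ξ : 𝓞 F)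
    (h : ∃ (m : ℕ) (c' : 𝓞 F), ¬ r ∣ m ∧ ((ξ + x) ^ 2 + r * (y ^ 2 + z ^ 2)) * c' = m) :
    Nonempty (Lvl D b hp x y z ξ) := by
  obtain ⟨m, c', hm, hc⟩ := h
  obtain ⟨h1, h2⟩ := V_w₀ D b hp hc
  obtain ⟨X, i1, i2, hX, v, w, e, he, hvw, hwv, hv, hw⟩ := hET W A g hA m (natCast_ne_zero_of_not_dvd hr hrm hm)
    (V D b hp (ξ + x) y z) (-(nuk D b hp c' * V D b hp (ξ + x) y z)) h1 h2
  exact ⟨{ X := X, ab := hX, m := m, c' := c', hm := hm, hc := hc, v := v, w := w, vw := hvw, wv := hwv, e := e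
           hv := hv, hw := hw }⟩

variable {D b hp} {x y z ξ : 𝓞 F} (ℓ : Lvl D b hp x y z ξ)

/-- The embedding of the special fibre. -/
theorem Lvl.bc : IsBC (spm (IsLocalRing.residue W)) ℓ.X (Ak A)
    (ℓ.e.inv.left ≫ pullback.fst ℓ.X.hom (spm (IsLocalRing.residue W))) :=
  haveI : IsMonHom ℓ.e.inv := inferInstance
  isBC_of_iso (he := this) ℓ.e.symm

/-- `w₀`. -/
def Lvl.w₀ : EndAV.End (Ak A) := -(nuk D b hp ℓ.c' * V D b hp (ξ + x) y z)

theorem Lvl.V_w₀ : V D b hp (ξ + x) y z * ℓ.w₀ = ℓ.m := (K511.HT.V_w₀ D b hp ℓ.hc).1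

theorem Lvl.w₀_V : ℓ.w₀ * V D b hp (ξ + x) y z = ℓ.m := (K511.HT.V_w₀ D b hp ℓ.hc).2

theorem Lvl.tr_v (hA : AgPol.IsAbSch A g) :
    (isBC_bc (spm (IsLocalRing.residue W)) A).tr ℓ.bc hA ℓ.ab ℓ.v = V D b hp (ξ + x) y z := by
  apply (isBC_bc (spm (IsLocalRing.residue W)) A).tr_eq ℓ.bc hA ℓ.ab
  have h1 : (V D b hp (ξ + x) y z).toHom ≫ ℓ.e.inv = (bcHom (spm (IsLocalRing.residue W)) A ℓ.X ℓ.v).toHom := by
    rw [← ℓ.hv, Category.assoc, Iso.hom_inv_id, Category.comp_id]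
  have h2 := congrArg (fun f => f.left ≫ pullback.fst ℓ.X.hom (spm (IsLocalRing.residue W))) h1
  refine (Category.assoc _ _ _).symm.trans (h2.trans ?_)
  exact pullback.lift_fst _ _ _

theorem Lvl.tr_w (hA : AgPol.IsAbSch A g) :
    ℓ.bc.tr (isBC_bc (spm (IsLocalRing.residue W)) A) ℓ.ab hA ℓ.w = ℓ.w₀ := by
  apply ℓ.bc.tr_eq (isBC_bc (spm (IsLocalRing.residue W)) A) ℓ.ab hA
  have h1 : ℓ.w₀.toHom = ℓ.e.inv ≫ (bcHom (spm (IsLocalRing.residue W)) ℓ.X A ℓ.w).toHom := by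
    rw [ℓ.hw, Iso.inv_hom_id_assoc]
    rfl
  have h2 := congrArg (fun f => f.left ≫ pullback.fst A.hom (spm (IsLocalRing.residue W))) h1
  refine h2.trans ?_
  refine (Category.assoc _ _ _).trans ?_
  rw [Category.assoc]
  congr 1
  exact pullback.lift_fst _ _ _

end lvl

end K511.HT
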