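import Groth.Agent.AbVar.K511.HT.Twr

/-!
# The action of `𝓞 F[√-δ]` on the levels of the tower, and the transition isomorphisms
-/

set_option autoImplicit false
set_option linter.unusedSectionVars false
universe u
open CategoryTheory CategoryTheory.Limits MonoidalCategory CartesianMonoidalCategory MonObj GrpObj AlgebraicGeometry
open scoped NumberField Polynomial

noncomputable section

namespace K511.HT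

variable {r : ℕ} {W : Type u} [CommRing W] [IsDomain W] [IsDiscreteValuationRing W]
  {D : EData r W} {F : Type} [Field F] [NumberField F] {g : ℕ} {b : Module.Basis (Fin g) ℤ (𝓞 F)}
  {A : Over (Spc W)} [GrpObj A] [IsCommMonObj A] {p : Fin g → (A ⟶ D.E)} {hp : IsPow D.E A p}
  {x y z ξ : 𝓞 F} (ℓ : Lvl D b hp x y z ξ)

/-- The embedding of the endomorphisms of the reduction into those of the special fibre. -/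
def Lvl.T (n : ℕ) : EndAV.End (At n ℓ.X) →+* EndAV.End (Ak A) :=
  (ℓ.bc.isBC_sat n).trEnd (isAbSch_bc _ ℓ.ab)

theorem Lvl.T_apply (n : ℕ) (f : EndAV.End (At n ℓ.X)) :
    ℓ.T n f = (ℓ.bc.isBC_sat n).tr (ℓ.bc.isBC_sat n) (isAbSch_bc _ ℓ.ab) (isAbSch_bc _ ℓ.ab) f := rfl

theorem Lvl.T_injective (hL : LIFT.{u}) (hrm : (r : W) ∈ IsLocalRing.maximalIdeal W) (n : ℕ) :
    Function.Injective (ℓ.T n) := tr_inj hL hrm _ _ _ _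

theorem Lvl.T_bcEnd (n : ℕ) (f : EndAV.End ℓ.X) :
    ℓ.T n (bcEnd (CohB1.specQuot (IsLocalRing.maximalIdeal W) n) ℓ.X f) = ℓ.bc.trEnd ℓ.ab f :=
  IsBC.tr_sat ℓ.bc ℓ.bc ℓ.ab ℓ.ab n f

theorem Lvl.tr_wφv (hA : AgPol.IsAbSch A g) (φ : EndAV.End A) :
    ℓ.bc.trEnd ℓ.ab ((ℓ.w ≫ (φ : EndAV.Hom A A) ≫ ℓ.v : EndAV.Hom ℓ.X ℓ.X) : EndAV.End ℓ.X) =
      V D b hp (ξ + x) y z * bcEnd (spm (IsLocalRing.residue W)) A φ * ℓ.w₀ := by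
  refine (ℓ.bc.tr_comp (isBC_bc (spm (IsLocalRing.residue W)) A) ℓ.bc ℓ.ab hA ℓ.ab ℓ.w
    (φ ≫ ℓ.v : EndAV.Hom A ℓ.X)).trans ?_
  rw [ℓ.tr_w hA, (isBC_bc (spm (IsLocalRing.residue W)) A).tr_comp (isBC_bc (spm (IsLocalRing.residue W)) A) ℓ.bc
    hA hA ℓ.ab φ ℓ.v, ℓ.tr_v hA, tr_bc hA hA]
  rfl

theorem Lvl.tr_w_v {ξ₂ : 𝓞 F} (ℓ₂ : Lvl D b hp x y z ξ₂) (hA : AgPol.IsAbSch A g) :
    ℓ.bc.tr ℓ₂.bc ℓ.ab ℓ₂.ab (ℓ.w ≫ ℓ₂.v : EndAV.Hom ℓ.X ℓ₂.X) =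
      (V D b hp (ξ₂ + x) y z * ℓ.w₀ : EndAV.End (Ak A)) := by
  refine (ℓ.bc.tr_comp (isBC_bc (spm (IsLocalRing.residue W)) A) ℓ₂.bc ℓ.ab hA ℓ₂.ab ℓ.w ℓ₂.v).trans ?_
  rw [ℓ.tr_w hA, ℓ₂.tr_v hA]
  rfl

theorem Lvl.exists_T_pow (hL : LIFT.{u}) (hrm : (r : W) ∈ IsLocalRing.maximalIdeal W) (n N : ℕ) (hN : n ≤ N)
    (f₀ : EndAV.End (Ak A)) : ∃ f : EndAV.End (At n ℓ.X), ℓ.T n f = (r : EndAV.End (Ak A)) ^ N * f₀ := by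
  obtain ⟨f, hf⟩ := rlift hL hrm (ℓ.bc.isBC_sat n) (ℓ.bc.isBC_sat n) (isAbSch_bc _ ℓ.ab) (isAbSch_bc _ ℓ.ab) N hN f₀
  refine ⟨f, hf.trans ?_⟩
  have h2 : (r ^ N • f₀ : EndAV.End (Ak A)) = (r : EndAV.End (Ak A)) ^ N * f₀ := by
    rw [nsmul_eq_mul, Nat.cast_pow]
  exact h2

theorem Lvl.exists_T_of_mul (hL : LIFT.{u}) (hr : r.Prime) (hrm : (r : W) ∈ IsLocalRing.maximalIdeal W) (n : ℕ)
    (f₀ : EndAV.End (Ak A)) (h : ∃ f : EndAV.End (At n ℓ.X), ℓ.T n f = (ℓ.m : EndAV.End (Ak A)) * f₀) :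
    ∃ f : EndAV.End (At n ℓ.X), ℓ.T n f = f₀ := by
  obtain ⟨f, hf⟩ := h
  have h2 : (ℓ.m • f₀ : EndAV.End (Ak A)) = (ℓ.m : EndAV.End (Ak A)) * f₀ := nsmul_eq_mul _ _
  exact slift hL hrm _ _ _ _ hr ℓ.m ℓ.hm f₀ ⟨f, hf.trans h2.symm⟩

theorem nuk_pow (a u : 𝓞 F) (N : ℕ) (f : EndAV.End (Ak A)) :
    nuk D b hp (a * (u * (r : 𝓞 F) ^ N)) * f = (r : EndAV.End (Ak A)) ^ N * (nuk D b hp (a * u) * f) := by
  have h : a * (u * (r : 𝓞 F) ^ N) = (r : 𝓞 F) ^ N * (a * u) := by ring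
  rw [h, map_mul, map_pow, map_natCast, _root_.mul_assoc]

/-! ### The action -/

section act

variable {δ : 𝓞 F} (hδ : x ^ 2 + r * (y ^ 2 + z ^ 2) = δ) (P : OD F δ →+* EndAV.End (Ak A))
  (hPof : ∀ a, P (AdjoinRoot.of _ a) = nuk D b hp a) (hProot : P (AdjoinRoot.root _) = V D b hp x y z)

include hδ hPof hProot

theorem Lvl.m_mul_P (a₀ a₁ : 𝓞 F) :
    (ℓ.m : EndAV.End (Ak A)) * P (AdjoinRoot.of _ a₀ + AdjoinRoot.of _ a₁ * AdjoinRoot.root _) =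
      V D b hp (ξ + x) y z * (nuk D b hp a₀ + nuk D b hp (a₁ * ξ) * Ik D b hp) * ℓ.w₀ +
        nuk D b hp (a₁ * (ξ ^ 2 - δ)) * ℓ.w₀ := by
  have h1 := alpha_V D b hp x y z ξ
  rw [hδ] at h1
  have h2 := (nuk_comm D b hp a₀ (ξ + x) y z).eq
  have h3 := (nuk_comm D b hp a₁ (ξ + x) y z).eq
  have h4 := ℓ.V_w₀
  have h5 : V D b hp x y z * V D b hp (ξ + x) y z =
      V D b hp (ξ + x) y z * (nuk D b hp ξ * Ik D b hp) + nuk D b hp (ξ ^ 2 - δ) := by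
    rw [← h1]
    abel
  rw [map_add, map_mul, hPof, hPof, hProot, (Nat.cast_commute ℓ.m _).eq, ← h4, ← _root_.mul_assoc,
    _root_.add_mul, _root_.mul_assoc (nuk D b hp a₁), h5, h2, _root_.mul_add (nuk D b hp a₁), ← map_mul,
    ← _root_.mul_assoc (nuk D b hp a₁), h3, map_mul, map_mul]
  noncomm_ring

/-- The endomorphism of `A` over `W` lifting `ν a₀ + ν (a₁ ξ) i`. -/
theorem bcEnd_lift (hp : IsPow D.E A p) (a₀ c : 𝓞 F) :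
    bcEnd (spm (IsLocalRing.residue W)) A (rp b hp a₀ 1 + rp b hp c D.i) =
      nuk D b hp a₀ + nuk D b hp c * Ik D b hp := by
  rw [map_add, bcEnd_rp, bcEnd_rp, map_one, nu_mul_dg]
  rfl

theorem Lvl.exists_P (hL : LIFT.{u}) (hr : r.Prime) (hrm : (r : W) ∈ IsLocalRing.maximalIdeal W)
    (hA : AgPol.IsAbSch A g) (n N : ℕ) (hN : n ≤ N) (hξ : ξ ^ 2 - δ ∈ Ideal.span {(r : 𝓞 F) ^ N}) (β : OD F δ) :
    ∃ f, ℓ.T n f = P β := by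
  obtain ⟨a₀, a₁, rfl⟩ := OD_exists β
  obtain ⟨u, hu⟩ := Ideal.mem_span_singleton'.1 hξ
  apply ℓ.exists_T_of_mul hL hr hrm
  obtain ⟨f', hf'⟩ := ℓ.exists_T_pow hL hrm n N hN (nuk D b hp (a₁ * u) * ℓ.w₀)
  refine ⟨bcEnd (CohB1.specQuot (IsLocalRing.maximalIdeal W) n) ℓ.X
    ((ℓ.w ≫ ((rp b hp a₀ 1 + rp b hp (a₁ * ξ) D.i : EndAV.End A) : EndAV.Hom A A) ≫ ℓ.v : EndAV.Hom ℓ.X ℓ.X) :
      EndAV.End ℓ.X) + f', ?_⟩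
  rw [map_add, hf', ℓ.T_bcEnd, ℓ.tr_wφv hA, bcEnd_lift hδ P hPof hProot]
  have h1 := ℓ.m_mul_P hδ P hPof hProot a₀ a₁
  rw [← hu, nuk_pow] at h1
  exact h1.symm

/-- The action modulo `r ^ (n + 1)`. -/
theorem Lvl.exists_rho (hL : LIFT.{u}) (hr : r.Prime) (hrm : (r : W) ∈ IsLocalRing.maximalIdeal W)
    (hA : AgPol.IsAbSch A g) (n N : ℕ) (hN : n ≤ N) (hξ : ξ ^ 2 - δ ∈ Ideal.span {(r : 𝓞 F) ^ N}) :
    ∃ ρ : OD F δ →+* EndAV.End (At n ℓ.X), ∀ β, ℓ.T n (ρ β) = P β :=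
  exists_ringHom_lift _ (ℓ.T_injective hL hrm n) P fun β =>
    ℓ.exists_P hδ P hPof hProot hL hr hrm hA n N hN hξ β

/-- The comparison, on the special fibre. -/
theorem Lvl.exists_kappa (hL : LIFT.{u}) (hrm : (r : W) ∈ IsLocalRing.maximalIdeal W)
    (hA : AgPol.IsAbSch A g) (n : ℕ) (hξ : ξ ^ 2 - δ ∈ Ideal.span {(r : 𝓞 F) ^ (2 * n + 1)}) (a₀ a₁ : 𝓞 F) :
    ∃ κ : EndAV.End (At n ℓ.X),
      (ℓ.m : EndAV.End (Ak A)) * P (AdjoinRoot.of _ a₀ + AdjoinRoot.of _ a₁ * AdjoinRoot.root _) =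
      ℓ.T n (bcEnd (CohB1.specQuot (IsLocalRing.maximalIdeal W) n) ℓ.X
        ((ℓ.w ≫ ((rp b hp a₀ 1 + rp b hp (a₁ * ξ) D.i : EndAV.End A) : EndAV.Hom A A) ≫ ℓ.v : EndAV.Hom ℓ.X ℓ.X) :
          EndAV.End ℓ.X) + (r : EndAV.End (At n ℓ.X)) ^ (n + 1) * κ) := by
  obtain ⟨u, hu⟩ := Ideal.mem_span_singleton'.1 hξ
  obtain ⟨κ, hκ⟩ := ℓ.exists_T_pow hL hrm n n le_rfl (nuk D b hp (a₁ * u) * ℓ.w₀)
  refine ⟨κ, ?_⟩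
  have h1 := ℓ.m_mul_P hδ P hPof hProot a₀ a₁
  rw [← hu, nuk_pow, show 2 * n + 1 = n + 1 + n by omega, pow_add, _root_.mul_assoc (_ ^ (n + 1))] at h1
  refine h1.trans (Eq.symm ((map_add (ℓ.T n) _ _).trans (congrArg₂ (· + ·) ?_ ?_)))
  · refine (ℓ.T_bcEnd n _).trans ?_
    rw [ℓ.tr_wφv hA, bcEnd_lift hδ P hPof hProot]
  · rw [map_mul, map_pow, map_natCast, hκ]

end act

/-! ### Transition maps -/

theorem Lvl.exists_trans (hL : LIFT.{u}) (hr : r.Prime) (hrm : (r : W) ∈ IsLocalRing.maximalIdeal W)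
    (hA : AgPol.IsAbSch A g) {ξ₂ : 𝓞 F} (ℓ₂ : Lvl D b hp x y z ξ₂) (n N : ℕ) (hN : n ≤ N)
    (h : ξ₂ - ξ ∈ Ideal.span {(r : 𝓞 F) ^ N}) :
    ∃ f : EndAV.Hom (At n ℓ.X) (At n ℓ₂.X),
      (ℓ.bc.isBC_sat n).tr (ℓ₂.bc.isBC_sat n) (isAbSch_bc _ ℓ.ab) (isAbSch_bc _ ℓ₂.ab) f =
        (1 : EndAV.End (Ak A)) := by
  obtain ⟨u, hu⟩ := Ideal.mem_span_singleton'.1 h
  apply slift hL hrm _ _ _ _ hr ℓ.m ℓ.hm
  obtain ⟨f', hf'⟩ := rlift hL hrm (ℓ.bc.isBC_sat n) (ℓ₂.bc.isBC_sat n) (isAbSch_bc _ ℓ.ab) (isAbSch_bc _ ℓ₂.ab) N hN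
    (nuk D b hp u * Ik D b hp * ℓ.w₀ : EndAV.End (Ak A))
  refine ⟨bcHom (CohB1.specQuot (IsLocalRing.maximalIdeal W) n) ℓ.X ℓ₂.X (ℓ.w ≫ ℓ₂.v : EndAV.Hom ℓ.X ℓ₂.X) - f', ?_⟩
  rw [map_sub, hf', IsBC.tr_sat ℓ.bc ℓ₂.bc ℓ.ab ℓ₂.ab n, ℓ.tr_w_v ℓ₂ hA]
  have h1 := ℓ.V_w₀
  have h4 : ξ₂ + x = u * r ^ N + (ξ + x) := by rw [hu]; ring
  have h5 : (V D b hp (ξ₂ + x) y z * ℓ.w₀ - r ^ N • (nuk D b hp u * Ik D b hp * ℓ.w₀) : EndAV.End (Ak A)) =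
      ℓ.m • (1 : EndAV.End (Ak A)) := by
    rw [h4, V_add, nsmul_eq_mul, nsmul_eq_mul, _root_.mul_one, ← h1, _root_.mul_comm u, map_mul, map_pow, map_natCast,
      Nat.cast_pow]
    noncomm_ring
  exact h5

end K511.HT
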